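import Cfsg.Agent.Derange5732.Linear.Minimal

/-!
# The abelian case
-/

set_option autoImplicit false

namespace Derange5732

open scoped Classical Pointwise
open MulAction

variable {G : Type*} [Group G] [Finite G] {D A S : Subgroup G} {p r : ℕ} {Y : Subgroup G}

/-- Subgroups of `Y` maximal with a non-trivial fixed point. -/
def KMax (S Y K : Subgroup G) : Prop :=
  K ≤ Y ∧ cS S K ≠ ⊥ ∧ ∀ b ∈ Y, b ∉ K → cS S (K ⊔ Subgroup.zpowers b) = ⊥

namespace MinBad

theorem coatom_of_KMax (m : MinBad D A S p r Y) (hab : ∀ x ∈ Y, ∀ y ∈ Y, x * y = y * x)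
    (hexp : ∀ y ∈ Y, y ^ r = 1) {K : Subgroup G} (hK : KMax S Y K) {b : G} (hb : b ∈ Y)
    (hbK : b ∉ K) : Y ≤ K ⊔ Subgroup.zpowers b := by
  intro a ha
  by_contra haK
  have := Fact.mk m.rprime
  have hU : ∀ x ∈ Y, ∀ u ∈ cS S K, x * u * x⁻¹ ∈ cS S K := by
    intro x hx u hu
    obtain ⟨huS, huK⟩ := mem_cS.1 hu
    refine mem_cS.2 ⟨m.lin.conj_mem (m.leA hx) huS, fun k hk => ?_⟩
    have h1 : k * x = x * k := hab k (hK.1 hk) x hx
    calc k * (x * u * x⁻¹) = (k * x) * u * x⁻¹ := by group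
      _ = x * (k * u) * x⁻¹ := by rw [h1]; group
      _ = x * u * (k * x⁻¹) := by rw [huK k hk]; group
      _ = x * u * x⁻¹ * k := by
          rw [show k * x⁻¹ = x⁻¹ * k from ((show Commute k x from h1).inv_right).eq]; group
  obtain ⟨j, u, hu, hu1, hfix⟩ := m.lin.exists_fixed_on_line m.ne (m.leA ha) (m.leA hb)
    (hab a ha b hb) (hexp a ha) (hexp b hb) (cS_le S K) hK.2.1 (hU a ha) (hU b hb)
    (fun v hv hbv => Subgroup.mem_bot.1 (hK.2.2 b hb hbK ▸ (by
      rw [cS_sup]; exact ⟨hv, cS_zpowers.2 ⟨cS_le S K hv, hbv⟩⟩ :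
        v ∈ cS S (K ⊔ Subgroup.zpowers b))))
  have hmem : u ∈ cS S (K ⊔ Subgroup.zpowers (a * b ^ j)) := by
    rw [cS_sup]; exact ⟨hu, cS_zpowers.2 ⟨cS_le S K hu, hfix⟩⟩
  have habK : a * b ^ j ∈ K := by
    by_contra hne
    exact hu1 (Subgroup.mem_bot.1 (hK.2.2 _ (Y.mul_mem ha (Y.pow_mem hb j)) hne ▸ hmem))
  apply haK
  have h2 := (K ⊔ Subgroup.zpowers b).mul_mem (Subgroup.mem_sup_left habK)
    ((K ⊔ Subgroup.zpowers b).inv_mem ((K ⊔ Subgroup.zpowers b).pow_mem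
      (Subgroup.mem_sup_right (Subgroup.mem_zpowers b)) j))
  simpa using h2

theorem sq_le_of_abelian (m : MinBad D A S p r Y) (hab : ∀ x ∈ Y, ∀ y ∈ Y, x * y = y * x) :
    (D.index + 1) ^ 2 ≤ Nat.card S := by
  have := Fact.mk m.rprime
  have hexp : ∀ y ∈ Y, y ^ r = 1 := by
    intro y hy
    rw [← m.closure_eq] at hy
    induction hy using Subgroup.closure_induction with
    | mem x hx => exact hx.2
    | one => simp
    | mul a b ha hb iha ihb =>
      rw [Commute.mul_pow (hab a (m.closure_eq ▸ ha) b (m.closure_eq ▸ hb)), iha, ihb, mul_one]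
    | inv a _ ih => rw [inv_pow, ih, inv_one]
  obtain ⟨y, hy, -, hybad⟩ := m.bad
  obtain ⟨K, ⟨hKY, hKne⟩, hKmax⟩ := Set.Finite.exists_maximal
    (Set.toFinite {K : Subgroup G | K ≤ Y ∧ cS S K ≠ ⊥})
    ⟨Subgroup.zpowers y, Subgroup.zpowers_le.2 hy, (bad_iff.1 hybad).2⟩
  have hK : KMax S Y K := ⟨hKY, hKne, fun b hb hbK => by
    by_contra hne
    exact hbK (hKmax ⟨sup_le hKY (Subgroup.zpowers_le.2 hb), hne⟩ le_sup_left
      (Subgroup.mem_sup_right (Subgroup.mem_zpowers b)))⟩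
  set N := A ⊓ Subgroup.normalizer (Y : Set G) with hN
  let _ : MulAction N (Subgroup G) := MulAction.compHom (Subgroup G) ((MulAut.conj).comp N.subtype)
  have hsmul : ∀ (g : N) (H : Subgroup G), g • H = H.map (MulAut.conj g.1).toMonoidHom :=
    fun g H => rfl
  have hconjK : ∀ K' ∈ orbit N K, KMax S Y K' ∧ Nat.card (cS S K') = Nat.card (cS S K) := by
    rintro _ ⟨g, rfl⟩
    show KMax S Y (g • K) ∧ Nat.card (cS S (g • K)) = _
    rw [hsmul]
    have hgS : g.1 ∈ Subgroup.normalizer (S : Set G) := m.lin.A_norm g.2.1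
    refine ⟨⟨?_, ?_, ?_⟩, card_cS_conj hgS K⟩
    · rintro _ ⟨k, hk, rfl⟩; exact m.conj_mem g.2 (hKY hk)
    · intro h0
      have h1 := card_cS_conj hgS K
      rw [h0, Subgroup.card_bot] at h1
      exact hKne (Subgroup.card_eq_one.1 h1.symm)
    · intro b hb hbK
      have hb' : g.1⁻¹ * b * g.1 ∈ Y := by simpa using m.conj_mem (inv_mem g.2) hb
      have h1 := hK.2.2 _ hb' (fun hc => hbK ⟨_, hc, by simp [mul_assoc]⟩)
      have h2 := card_cS_conj hgS (K ⊔ Subgroup.zpowers (g.1⁻¹ * b * g.1))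
      rw [h1, Subgroup.card_bot, Subgroup.map_sup, MonoidHom.map_zpowers] at h2
      refine Subgroup.card_eq_one.1 ?_
      rw [← h2]
      congr
      simp [mul_assoc]
  have : Fintype (orbit N K) := Fintype.ofFinite _
  have hk : Fintype.card (orbit N K) = (orbit N K).ncard := by
    rw [← Nat.card_coe_set_eq, Nat.card_eq_fintype_card]
  -- the components
  have hu : Nat.card (cS S K) ^ (orbit N K).ncard ≤ Nat.card S := by
    have h1 := m.lin.prod_card_cS_le (E := Y) m.leA (m.not_p_dvd le_rfl) hab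
      (fun i : orbit N K => i.1) (fun i => (hconjK i i.2).1.1) ?_ m.cS_eq_bot
    · rwa [Finset.prod_eq_pow_card (fun i _ => (hconjK i.1 i.2).2), Finset.card_univ, hk] at h1
    · intro i j hij
      obtain ⟨hi, -⟩ := hconjK i i.2
      obtain ⟨hj, -⟩ := hconjK j j.2
      have hnle : ¬ j.1 ≤ i.1 := by
        intro hle
        obtain ⟨b, hb, hbj⟩ := SetLike.exists_of_lt
          (lt_of_le_of_ne hle (fun he => hij (Subtype.ext he.symm)))
        refine hi.2.1 (eq_bot_iff.2 ?_)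
        rw [← hj.2.2 b (hi.1 hb) hbj]
        exact cS_anti S (sup_le hle (Subgroup.zpowers_le.2 hb))
      obtain ⟨b, hb, hbi⟩ := SetLike.not_le_iff_exists.1 hnle
      exact (m.coatom_of_KMax hab hexp hi (hj.1 hb) hbi).trans
        (sup_le_sup_left (Subgroup.zpowers_le.2 hb) _)
  set k := (orbit N K).ncard
  have hk2 : 2 ≤ k := by
    by_contra hlt
    have hpos : 0 < k := (Set.ncard_pos).2 ⟨K, mem_orbit_self K⟩
    obtain ⟨K₁, hK₁⟩ := Set.ncard_eq_one.1 (show k = 1 by omega)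
    have hfix : ∀ g : N, K.map (MulAut.conj g.1).toMonoidHom = K := by
      intro g
      have h1 : g • K ∈ orbit N K := mem_orbit K g
      have h2 : K ∈ orbit N K := mem_orbit_self K
      rw [hK₁, Set.mem_singleton_iff] at h1 h2
      rw [← hsmul, h1, ← h2]
    have hnK : N ≤ Subgroup.normalizer (cS S K : Set G) := by
      intro g hg
      rw [Subgroup.mem_normalizer_iff_map_conj_eq]
      apply Subgroup.eq_of_le_of_card_ge
      · rintro _ ⟨s, hs, rfl⟩
        obtain ⟨hsS, hsK⟩ := mem_cS.1 hs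
        refine mem_cS.2 ⟨m.lin.conj_mem hg.1 hsS, fun k hk => ?_⟩
        rw [← hfix ⟨g, hg⟩] at hk
        obtain ⟨l, hl, rfl⟩ := hk
        show g * l * g⁻¹ * (g * s * g⁻¹) = g * s * g⁻¹ * (g * l * g⁻¹)
        calc g * l * g⁻¹ * (g * s * g⁻¹) = g * (l * s) * g⁻¹ := by group
          _ = _ := by rw [hsK l hl]; group
      · rw [Subgroup.card_map_of_injective (MulEquiv.injective _)]
    rcases m.lin.irred (cS S K) (cS_le S K) (m.cov.mono hnK) with h | h
    · exact hKne h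
    · have hKbot : K = ⊥ := by
        rw [eq_bot_iff]
        intro x hx
        refine Subgroup.mem_bot.2 (m.lin.faithful x (m.leA (hKY hx)) fun s hs => ?_)
        exact (mem_cS.1 (h.ge hs : s ∈ cS S K)).2 x hx
      obtain ⟨hy1, hyne⟩ := bad_iff.1 hybad
      have h3 := hK.2.2 y hy (by rw [hKbot, Subgroup.mem_bot]; exact hy1)
      rw [hKbot, bot_sup_eq] at h3
      exact hyne h3
  -- a moving element
  obtain ⟨b, hb, hbK⟩ : ∃ b ∈ Y, b ∉ K := by
    by_contra hc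
    push Not at hc
    exact hKne (eq_bot_iff.2 ((cS_anti S hc).trans m.cS_eq_bot.le))
  have hmove : ∀ u ∈ cS S K, u ≠ 1 → b * u ≠ u * b := by
    intro u hu hu1 he
    exact hu1 (Subgroup.mem_bot.1 (hK.2.2 b hb hbK ▸ (by
      rw [cS_sup]; exact ⟨hu, cS_zpowers.2 ⟨cS_le S K hu, he⟩⟩ :
        u ∈ cS S (K ⊔ Subgroup.zpowers b))))
  have hstab : ∀ i : ℕ, ∀ w ∈ cS S K, b ^ i * w * (b ^ i)⁻¹ ∈ cS S K := by
    intro i w hw
    obtain ⟨hwS, hwK⟩ := mem_cS.1 hw
    refine mem_cS.2 ⟨m.lin.conj_mem (m.leA (Y.pow_mem hb i)) hwS, fun k hk => ?_⟩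
    have h1 : Commute k (b ^ i) := hab k (hKY hk) _ (Y.pow_mem hb i)
    exact ((h1.mul_right (hwK k hk)).mul_right h1.inv_right).eq
  have hbound := m.lin.orbit_bound (M := N) inf_le_left m.cov
    (ι := orbit N K) ⟨K, mem_orbit_self K⟩ (cS_le S K) hKne
    (c := 1) (r' := r) ?_ ((Set.ncard_pos).2 ⟨⟨K, mem_orbit_self K⟩, 1, D.one_mem, one_smul _ _⟩) ?_
  rotate_left
  · intro g hg u hu
    obtain ⟨huS, huK⟩ := mem_cS.1 hu
    refine mem_cS.2 ⟨m.lin.conj_mem g.2.1 huS, fun k hk => ?_⟩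
    have hg' : K.map (MulAut.conj g.1).toMonoidHom = K := by
      rw [← hsmul]; exact congrArg Subtype.val hg
    rw [← hg'] at hk
    obtain ⟨l, hl, rfl⟩ := hk
    show g.1 * l * g.1⁻¹ * (g.1 * u * g.1⁻¹) = g.1 * u * g.1⁻¹ * (g.1 * l * g.1⁻¹)
    calc g.1 * l * g.1⁻¹ * (g.1 * u * g.1⁻¹) = g.1 * (l * u) * g.1⁻¹ := by group
      _ = _ := by rw [huK l hl]; group
  · intro u hu hu1
    refine prime_le_ncard_conj m.rprime (hexp b hb) (hmove u hu hu1) fun i => ?_
    refine ⟨⟨b ^ i, m.le_N (Y.pow_mem hb i)⟩, m.leD (Y.pow_mem hb i), Subtype.ext ?_, rfl⟩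
    show (⟨b ^ i, m.le_N (Y.pow_mem hb i)⟩ : N) • K = K
    rw [hsmul]
    apply Subgroup.eq_of_le_of_card_ge
    · rintro _ ⟨l, hl, rfl⟩
      show b ^ i * l * (b ^ i)⁻¹ ∈ K
      rw [hab _ (Y.pow_mem hb i) l (hKY hl), mul_inv_cancel_right]
      exact hl
    · rw [Subgroup.card_map_of_injective (MulEquiv.injective _)]
  rw [mul_one, Nat.card_coe_set_eq] at hbound
  have hru : r + 1 ≤ Nat.card (cS S K) := by
    obtain ⟨u, hu, hu1⟩ := SetLike.exists_of_lt (bot_lt_iff_ne_bot.2 hKne)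
    rw [Subgroup.mem_bot] at hu1
    have h1 := prime_le_ncard_conj m.rprime (hexp b hb) (hmove u hu hu1)
      (W := (cS S K : Set G) \ {1}) fun i => ⟨hstab i u hu, by simpa using hu1⟩
    rw [Set.ncard_diff_singleton_of_mem (show (1 : G) ∈ (cS S K : Set G) from one_mem _),
      ← Nat.card_coe_set_eq] at h1
    have h2 : Nat.card ((cS S K : Set G)) = Nat.card (cS S K) := rfl
    have := m.rprime.two_le
    omega
  exact sq_le_of_abelian_bound m.rprime.two_le hk2 hru hbound hu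

end MinBad

end Derange5732
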