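import Cfsg.Agent.Derange5732.Setting

/-!
# Linear groups in which everything outside a normal subgroup is fixed point free:
orbit lemma, component lemma and the norm identity
-/

set_option autoImplicit false

namespace Derange5732

open scoped Classical
open MulAction

variable {G : Type*} [Group G]

/-- The linear situation: `A` normalises the elementary abelian `p`-group `S`, covers `G/D`, and
its elements outside `D` act fixed-point-freely. -/
structure Lin (D A S : Subgroup G) (p : ℕ) : Prop where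
  pp : p.Prime
  normal : D.Normal
  A_norm : A ≤ Subgroup.normalizer (S : Set G)
  cov : Cov D A
  comm : ∀ x ∈ S, ∀ y ∈ S, x * y = y * x
  exp : ∀ x ∈ S, x ^ p = 1
  faithful : ∀ a ∈ A, (∀ s ∈ S, a * s = s * a) → a = 1
  fpf : ∀ a ∈ A, a ∉ D → ∀ s ∈ S, a * s = s * a → s = 1
  irred : ∀ U ≤ S, Cov D (Subgroup.normalizer (U : Set G)) → U = ⊥ ∨ U = S
  coprime : ¬ p ∣ Nat.card ↥(A ⊓ D)

/-- The fixed points of `K` on `S`. -/
def cS (S K : Subgroup G) : Subgroup G := S ⊓ Subgroup.centralizer (K : Set G)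

theorem mem_cS {S K : Subgroup G} {s : G} :
    s ∈ cS S K ↔ s ∈ S ∧ ∀ k ∈ K, k * s = s * k := by
  simp [cS, Subgroup.mem_centralizer_iff]

theorem cS_le (S K : Subgroup G) : cS S K ≤ S := inf_le_left

theorem cS_anti (S : Subgroup G) {K K' : Subgroup G} (h : K ≤ K') : cS S K' ≤ cS S K :=
  inf_le_inf_left _ (Subgroup.centralizer_le h)

theorem cS_sup (S K K' : Subgroup G) : cS S (K ⊔ K') = cS S K ⊓ cS S K' := by
  refine le_antisymm (le_inf (cS_anti S le_sup_left) (cS_anti S le_sup_right)) ?_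
  rintro s ⟨h1, h2⟩
  obtain ⟨hs, hk⟩ := mem_cS.1 h1
  obtain ⟨-, hk'⟩ := mem_cS.1 h2
  refine mem_cS.2 ⟨hs, ?_⟩
  have : K ⊔ K' ≤ Subgroup.centralizer {s} := sup_le
    (fun k hk0 => Subgroup.mem_centralizer_singleton_iff.2 (hk k hk0))
    (fun k hk0 => Subgroup.mem_centralizer_singleton_iff.2 (hk' k hk0))
  exact fun k hk0 => Subgroup.mem_centralizer_singleton_iff.1 (this hk0)

theorem cS_closure (S : Subgroup G) (T : Set G) :
    cS S (Subgroup.closure T) = S ⊓ Subgroup.centralizer T := by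
  rw [cS, Subgroup.centralizer_closure]

theorem cS_zpowers {S : Subgroup G} {x s : G} :
    s ∈ cS S (Subgroup.zpowers x) ↔ s ∈ S ∧ x * s = s * x := by
  rw [Subgroup.zpowers_eq_closure, cS_closure]
  simp [Subgroup.mem_centralizer_iff]

/-! ### Abstract lemmas on coprime action -/

section Coprime

variable {V : Type*} [CommGroup V]

theorem norm_fixed {K : Type*} [Group K] [Fintype K] [MulDistribMulAction K V] (k : K) (v : V) :
    k • (∏ l : K, l • v) = ∏ l : K, l • v := by
  rw [Finset.smul_prod']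
  simp only [smul_smul]
  exact Fintype.prod_equiv (Equiv.mulLeft k) _ _ fun l => rfl

theorem eq_one_of_pow_of_coprime {p n : ℕ} {v : V} (hp : p.Prime) (hv : v ^ p = 1)
    (hn : ¬ p ∣ n) (h : v ^ n = 1) : v = 1 := by
  have h1 := pow_gcd_eq_one.2 ⟨hv, h⟩
  rwa [(hp.coprime_iff_not_dvd).2 hn, pow_one] at h1

/-- The norm identity for two commuting elements of order dividing `r`. -/
theorem eq_one_of_lines {E : Type*} [Group E] [MulDistribMulAction E V] {r p : ℕ} [Fact r.Prime]
    (hp : p.Prime) (hpr : p ≠ r) (hV : ∀ v : V, v ^ p = 1) {a b : E} (hab : Commute a b)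
    (ha : a ^ r = 1) (hb : b ^ r = 1) (hfb : ∀ v : V, b • v = v → v = 1)
    (hfab : ∀ j : ℕ, ∀ v : V, (a * b ^ j) • v = v → v = 1) (v : V) : v = 1 := by
  have hr : r.Prime := Fact.out
  have : NeZero r := ⟨hr.pos.ne'⟩
  let f : ZMod r → ZMod r → V := fun i k => a ^ i.val • b ^ k.val • v
  have hpow : ∀ {x : E}, x ^ r = 1 → ∀ m n : ℕ, (m : ZMod r) = n → x ^ m = x ^ n := by
    intro x hx m n hmn
    rw [← Nat.mod_add_div m r, ← Nat.mod_add_div n r, pow_add, pow_add, pow_mul, pow_mul, hx,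
      one_pow, one_pow, (ZMod.natCast_eq_natCast_iff' m n r).1 hmn]
  -- the product over each line is trivial
  have hline : ∀ j : ZMod r, ∏ i : ZMod r, f i (i * j) = 1 := by
    intro j
    apply hfab j.val
    rw [Finset.smul_prod']
    refine Fintype.prod_equiv (Equiv.addRight 1) _ _ fun i => ?_
    simp only [f, Equiv.coe_addRight, smul_smul]
    congr 1
    rw [mul_assoc a, (hab.pow_pow i.val j.val).symm.left_comm, ← mul_assoc a, ← pow_succ',
      ← pow_add, hpow ha (i + 1).val (i.val + 1) (by simp),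
      hpow hb ((i + 1) * j).val (j.val + (i * j).val) (by simp; ring)]
  have hlast : ∏ k : ZMod r, f 0 k = 1 := by
    apply hfb
    rw [Finset.smul_prod']
    refine Fintype.prod_equiv (Equiv.addRight 1) _ _ fun i => ?_
    simp only [f, Equiv.coe_addRight, smul_smul, ZMod.val_zero, pow_zero, one_smul, mul_one,
      one_mul]
    rw [← pow_succ', hpow hb (i + 1).val (i.val + 1) (by simp)]
  have hall : ∏ i : ZMod r, ∏ k : ZMod r, f i k = 1 := by
    apply hfb
    rw [Finset.smul_prod']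
    refine Finset.prod_congr rfl fun i _ => ?_
    rw [Finset.smul_prod']
    refine Fintype.prod_equiv (Equiv.addRight 1) _ _ fun k => ?_
    simp only [f, Equiv.coe_addRight, smul_smul]
    rw [← mul_assoc, (hab.symm.pow_right i.val).eq, mul_assoc, ← pow_succ',
      hpow hb (k + 1).val (k.val + 1) (by simp)]
  -- `∏_j ∏_i f i (i*j) * ∏_k f 0 k = v^r * ∏ f`
  have hsum : ∏ i : ZMod r, ∏ j : ZMod r, f i (i * j)
      = v ^ r * ((∏ k : ZMod r, f 0 k)⁻¹ * ∏ i : ZMod r, ∏ k : ZMod r, f i k) := by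
    rw [← Finset.mul_prod_erase Finset.univ _ (Finset.mem_univ (0 : ZMod r)),
      ← Finset.mul_prod_erase Finset.univ (fun i => ∏ k : ZMod r, f i k) (Finset.mem_univ 0),
      inv_mul_cancel_left]
    congr 1
    · simp [f, ZMod.card]
    · refine Finset.prod_congr rfl fun i hi => ?_
      exact Fintype.prod_equiv (Equiv.mulLeft₀ i (Finset.ne_of_mem_erase hi)) _ _ fun j => rfl
  rw [Finset.prod_comm, Finset.prod_eq_one (fun j _ => hline j), hlast, hall] at hsum
  simp only [inv_one, mul_one] at hsum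
  exact eq_one_of_pow_of_coprime hp (hV v) (fun h => hpr ((Nat.prime_dvd_prime_iff_eq hp hr).1 h))
    hsum.symm

/-- The component lemma. -/
theorem prod_card_fixed_le [Finite V] {E : Type*} [Group E] [Finite E]
    [MulDistribMulAction E V] {p : ℕ} (hp : p.Prime) (hV : ∀ v : V, v ^ p = 1)
    (hE : ¬ p ∣ Nat.card E) (hcomm : ∀ x y : E, Commute x y) {ι : Type*} [Fintype ι]
    (K : ι → Subgroup E) (hsup : ∀ i j, i ≠ j → K i ⊔ K j = ⊤)
    (hfix : ∀ v : V, (∀ e : E, e • v = v) → v = 1) :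
    ∏ i, {v : V | ∀ k ∈ K i, k • v = v}.ncard ≤ Nat.card V := by
  have : Fintype E := Fintype.ofFinite E
  let W : ι → Subgroup V := fun i =>
    { carrier := {v | ∀ k ∈ K i, k • v = v}
      one_mem' := fun k _ => smul_one k
      mul_mem' := fun {a b} ha hb k hk => by rw [smul_mul', ha k hk, hb k hk]
      inv_mem' := fun {a} ha k hk => by rw [smul_inv', ha k hk] }
  let φ : (Π i, W i) →* V :=
    { toFun := fun w => ∏ i, (w i : V)
      map_one' := by simp
      map_mul' := fun a b => by simp [Finset.prod_mul_distrib] }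
  have hinj : Function.Injective φ := by
    rw [injective_iff_map_eq_one]
    intro w hw
    funext i
    have hN : ∏ k : K i, (k : E) • φ w = 1 := by simp [hw]
    have h1 : ∏ j, ∏ k : K i, (k : E) • (w j : V) = 1 := by
      rw [Finset.prod_comm, ← hN]
      exact Finset.prod_congr rfl fun k _ => (Finset.smul_prod' ..).symm
    rw [Fintype.prod_eq_single i ?_] at h1
    · rw [Finset.prod_congr rfl (fun (k : K i) _ => (w i).2 k k.2), Finset.prod_const,
        Finset.card_univ, ← Nat.card_eq_fintype_card] at h1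
      exact Subtype.ext (eq_one_of_pow_of_coprime hp (hV _)
        (fun h => hE (h.trans (Subgroup.card_subgroup_dvd_card _))) h1)
    · intro j hji
      apply hfix
      intro e
      let F : Subgroup E := MulAction.stabilizer E (∏ k : K i, (k : E) • (w j : V))
      have hi : K i ≤ F := fun k hk => norm_fixed (⟨k, hk⟩ : K i) (w j : V)
      have hj : K j ≤ F := by
        intro l hl
        show l • (∏ k : K i, (k : E) • (w j : V)) = _
        rw [Finset.smul_prod']
        refine Finset.prod_congr rfl fun k _ => ?_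
        rw [smul_smul, (hcomm l k).eq, mul_smul, (w j).2 l hl]
      have : K i ⊔ K j ≤ F := sup_le hi hj
      rw [hsup i j hji.symm] at this
      exact this (Subgroup.mem_top e)
  have h := Nat.card_le_card_of_injective φ hinj
  rw [Nat.card_pi] at h
  exact h

end Coprime

/-! ### Instantiation for `A` acting on `S` -/

namespace Lin

variable {D A S : Subgroup G} {p : ℕ}

theorem conj_mem (h : Lin D A S p) {a s : G} (ha : a ∈ A) (hs : s ∈ S) : a * s * a⁻¹ ∈ S :=
  Subgroup.le_normalizer_iff.1 h.A_norm a ha s hs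

/-- `S` as a commutative group. -/
@[reducible] def commGroup (h : Lin D A S p) : CommGroup S :=
  { (inferInstance : Group S) with mul_comm := fun a b => Subtype.ext (h.comm a a.2 b b.2) }

/-- A subgroup of `A` acts on `S` by conjugation. -/
@[reducible] def conjAct (h : Lin D A S p) (E : Subgroup G) (hE : E ≤ A) :
    @MulDistribMulAction E S _ (h.commGroup).toMonoid :=
  letI := h.commGroup
  { smul := fun e s => ⟨e.1 * s.1 * e.1⁻¹, h.conj_mem (hE e.2) s.2⟩
    one_smul := fun s => Subtype.ext (by show (1 : G) * s.1 * 1⁻¹ = s.1; simp)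
    mul_smul := fun a b s => Subtype.ext (by
      show (a.1 * b.1) * s.1 * (a.1 * b.1)⁻¹ = a.1 * (b.1 * s.1 * b.1⁻¹) * a.1⁻¹
      group)
    smul_mul := fun e s t => Subtype.ext (by
      show e.1 * (s.1 * t.1) * e.1⁻¹ = (e.1 * s.1 * e.1⁻¹) * (e.1 * t.1 * e.1⁻¹)
      group)
    smul_one := fun e => Subtype.ext (by show e.1 * 1 * e.1⁻¹ = 1; group) }

/-- No element is fixed-point-free on all lines of a rank two group. -/
theorem exists_fixed_on_line [Finite G] (h : Lin D A S p) {r : ℕ} [Fact r.Prime] (hpr : p ≠ r)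
    {a b : G} (ha : a ∈ A) (hb : b ∈ A) (hab : Commute a b) (har : a ^ r = 1) (hbr : b ^ r = 1)
    {U : Subgroup G} (hU : U ≤ S) (hU1 : U ≠ ⊥)
    (haU : ∀ u ∈ U, a * u * a⁻¹ ∈ U) (hbU : ∀ u ∈ U, b * u * b⁻¹ ∈ U)
    (hfb : ∀ u ∈ U, b * u = u * b → u = 1) :
    ∃ (j : ℕ) (u : G), u ∈ U ∧ u ≠ 1 ∧ a * b ^ j * u = u * (a * b ^ j) := by
  by_contra hc
  push Not at hc
  let E : Subgroup G := A ⊓ Subgroup.normalizer (U : Set G)
  have hmem : ∀ x : G, x ∈ A → (∀ u ∈ U, x * u * x⁻¹ ∈ U) → x ∈ E := by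
    intro x hx hxU
    refine ⟨hx, ?_⟩
    show x ∈ Subgroup.normalizer (U : Set G)
    rw [Subgroup.mem_normalizer_iff_map_conj_eq]
    apply Subgroup.eq_of_le_of_card_ge
    · rintro _ ⟨u, hu, rfl⟩
      exact hxU u hu
    · rw [Subgroup.card_map_of_injective (MulEquiv.injective _)]
  have hUC : ∀ x ∈ U, ∀ y ∈ U, x * y = y * x := fun x hx y hy => h.comm x (hU hx) y (hU hy)
  let _ : CommGroup U :=
    { (inferInstance : Group U) with mul_comm := fun x y => Subtype.ext (hUC x x.2 y y.2) }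
  let _ : MulDistribMulAction E U :=
    { smul := fun e s => ⟨e.1 * s.1 * e.1⁻¹, Subgroup.le_normalizer_iff.1 (le_refl _) e.1 e.2.2 s.1 s.2⟩
      one_smul := fun s => Subtype.ext (by show (1 : G) * s.1 * 1⁻¹ = s.1; simp)
      mul_smul := fun x y s => Subtype.ext (by
        show (x.1 * y.1) * s.1 * (x.1 * y.1)⁻¹ = x.1 * (y.1 * s.1 * y.1⁻¹) * x.1⁻¹
        group)
      smul_mul := fun e s t => Subtype.ext (by
        show e.1 * (s.1 * t.1) * e.1⁻¹ = (e.1 * s.1 * e.1⁻¹) * (e.1 * t.1 * e.1⁻¹)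
        group)
      smul_one := fun e => Subtype.ext (by show e.1 * 1 * e.1⁻¹ = 1; group) }
  apply hU1
  rw [eq_bot_iff]
  intro u hu
  have key := eq_one_of_lines (E := E) (V := U) h.pp hpr
    (fun v => Subtype.ext (h.exp v (hU v.2))) (a := ⟨a, hmem a ha haU⟩) (b := ⟨b, hmem b hb hbU⟩)
    (Subtype.ext hab.eq) (Subtype.ext har) (Subtype.ext hbr)
    (fun v hv => by
      have := congrArg Subtype.val hv
      exact Subtype.ext (hfb v v.2 (mul_inv_eq_iff_eq_mul.1 this)))
    (fun j v hv => by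
      have h1 := congrArg Subtype.val hv
      by_contra hne
      exact hc j v v.2 (fun e => hne (Subtype.ext e))
        (mul_inv_eq_iff_eq_mul.1 (show a * b ^ j * v.1 * (a * b ^ j)⁻¹ = v.1 from h1)))
    ⟨u, hu⟩
  exact Subgroup.mem_bot.2 (congrArg Subtype.val key)

/-- The component lemma inside `A`. -/
theorem prod_card_cS_le [Finite G] (h : Lin D A S p) {E : Subgroup G} (hE : E ≤ A)
    (hEp : ¬ p ∣ Nat.card E) (hcomm : ∀ x ∈ E, ∀ y ∈ E, x * y = y * x)
    {ι : Type*} [Fintype ι] (K : ι → Subgroup G) (hK : ∀ i, K i ≤ E)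
    (hsup : ∀ i j, i ≠ j → E ≤ K i ⊔ K j) (hfix : cS S E = ⊥) :
    ∏ i, Nat.card (cS S (K i)) ≤ Nat.card S := by
  let _ := h.commGroup
  let _ := h.conjAct E hE
  have h1 := prod_card_fixed_le (V := S) (E := E) h.pp (fun v => Subtype.ext (h.exp v v.2)) hEp
    (fun x y => Subtype.ext (hcomm x x.2 y y.2)) (fun i => (K i).subgroupOf E)
    (fun i j hij => by
      rw [← Subgroup.subgroupOf_sup (hK i) (hK j), Subgroup.subgroupOf_eq_top]
      exact hsup i j hij)
    (fun v hv => by
      have : v.1 ∈ cS S E := mem_cS.2 ⟨v.2, fun e he => by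
        exact mul_inv_eq_iff_eq_mul.1 (congrArg Subtype.val (hv ⟨e, he⟩))⟩
      rw [hfix, Subgroup.mem_bot] at this
      exact Subtype.ext this)
  refine le_trans (le_of_eq (Finset.prod_congr rfl fun i _ => ?_)) h1
  rw [← Nat.card_coe_set_eq]
  refine Nat.card_congr ⟨fun s => ⟨⟨s.1, (mem_cS.1 s.2).1⟩, ?_⟩, fun v => ⟨v.1.1, ?_⟩,
    fun s => rfl, fun v => rfl⟩
  · intro k hk
    refine Subtype.ext ?_
    show k.1 * s.1 * k.1⁻¹ = s.1
    rw [mul_inv_eq_iff_eq_mul]
    exact (mem_cS.1 s.2).2 k.1 (Subgroup.mem_subgroupOf.1 hk)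
  · refine mem_cS.2 ⟨v.1.2, fun k hk => ?_⟩
    exact mul_inv_eq_iff_eq_mul.1 (congrArg Subtype.val (v.2 ⟨k, hK i hk⟩ (Subgroup.mem_subgroupOf.2 hk)))

set_option maxHeartbeats 1000000 in
/-- The orbit lemma. -/
theorem orbit_bound [Finite G] (h : Lin D A S p) {M : Subgroup G} (hM : M ≤ A) (hcov : Cov D M)
    {ι : Type*} [Finite ι] [MulAction M ι] (h₀ : ι) {U : Subgroup G} (hU : U ≤ S) (hU1 : U ≠ ⊥)
    (hUinv : ∀ g : M, g • h₀ = h₀ → ∀ u ∈ U, g.1 * u * g.1⁻¹ ∈ U) {c r' : ℕ}
    (hc : c ≤ {i : ι | ∃ g : M, g.1 ∈ D ∧ g • h₀ = i}.ncard)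
    (hr' : ∀ u ∈ U, u ≠ 1 →
      r' ≤ {w : G | ∃ g : M, g.1 ∈ D ∧ g • h₀ = h₀ ∧ g.1 * u * g.1⁻¹ = w}.ncard) :
    D.index * c * r' ≤ Nat.card ι * (Nat.card U - 1) := by
  obtain ⟨u, hu, hune⟩ := SetLike.exists_of_lt (bot_lt_iff_ne_bot.2 hU1)
  rw [Subgroup.mem_bot] at hune
  let actG : MulAction M G :=
    { smul := fun g x => g.1 * x * g.1⁻¹
      one_smul := fun x => by show (1 : G) * x * 1⁻¹ = x; simp
      mul_smul := fun a b x => by
        show (a.1 * b.1) * x * (a.1 * b.1)⁻¹ = a.1 * (b.1 * x * b.1⁻¹) * a.1⁻¹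
        group }
  set M0 : Subgroup M := D.subgroupOf M
  set K : Subgroup M := stabilizer M h₀
  set K0 : Subgroup M := K ⊓ M0
  have e1 : (orbit M h₀).ncard * Nat.card K = Nat.card M := by
    have := Subgroup.index_mul_card K
    rwa [MulAction.index_stabilizer] at this
  have e2 := card_orbit_mul_card_inf M0 h₀
  have e3 := @card_orbit_mul_card_inf M _ G actG _ K u
  have e4 := @card_orbit_mul_card_inf M _ G actG _ K0 u
  have hm : Nat.card M = D.index * Nat.card M0 := by
    rw [card_eq_index_mul_card_inf h.normal hcov]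
    congr 1
    exact Nat.card_congr ⟨fun x => ⟨⟨x.1, x.2.1⟩, x.2.2⟩, fun x => ⟨x.1.1, x.1.2, x.2⟩,
      fun _ => rfl, fun _ => rfl⟩
  have hs : K ⊓ @stabilizer M G _ actG u = K0 ⊓ @stabilizer M G _ actG u := by
    refine le_antisymm (fun g hg => ⟨⟨hg.1, ?_⟩, hg.2⟩) (inf_le_inf_right _ inf_le_left)
    show g.1 ∈ D
    by_contra hgD
    exact hune (h.fpf g.1 (hM g.2) hgD u (hU hu) (mul_inv_eq_iff_eq_mul.1 hg.2))
  rw [inf_comm M0 K] at e2
  rw [hs] at e3
  -- abbreviations
  set O := (orbit M h₀).ncard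
  set O0 := (orbit ↥M0 h₀).ncard
  set X := K0 ⊓ @stabilizer M G _ actG u
  have hcO : c ≤ O0 := by
    refine hc.trans (Set.ncard_le_ncard ?_)
    rintro _ ⟨g, hgD, rfl⟩
    exact ⟨⟨g, hgD⟩, rfl⟩
  have hU0 : ∀ (w : Set G), (∀ x ∈ w, x ∈ U ∧ x ≠ 1) → w.ncard ≤ Nat.card U - 1 := by
    intro w hw
    have h1 : w ⊆ (U : Set G) \ {1} := fun x hx => hw x hx
    refine (Set.ncard_le_ncard h1).trans ?_
    rw [Set.ncard_diff_singleton_of_mem (show (1 : G) ∈ (U : Set G) from U.one_mem),
      ← Nat.card_coe_set_eq]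
    rfl
  have hP : (@orbit K G (by letI := actG; infer_instance) u).ncard ≤ Nat.card U - 1 := by
    apply hU0
    rintro _ ⟨g, rfl⟩
    refine ⟨hUinv g.1 g.2 u hu, ?_⟩
    show g.1.1 * u * g.1.1⁻¹ ≠ 1
    simpa using hune
  have hP0 : r' ≤ (@orbit K0 G (by letI := actG; infer_instance) u).ncard := by
    refine (hr' u hu hune).trans (Set.ncard_le_ncard ?_)
    rintro _ ⟨g, hgD, hgh, rfl⟩
    exact ⟨⟨g, hgh, hgD⟩, rfl⟩
  have hι : O ≤ Nat.card ι := by
    rw [← Set.ncard_univ]; exact Set.ncard_le_ncard (Set.subset_univ _)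
  have key : O * (@orbit K G (by letI := actG; infer_instance) u).ncard
      = D.index * O0 * (@orbit K0 G (by letI := actG; infer_instance) u).ncard := by
    have e2' : O0 * Nat.card K0 = Nat.card M0 := e2
    have hX : 0 < Nat.card X := Nat.card_pos
    revert e1 hm e2' e3 e4
    generalize (@orbit K G (by letI := actG; infer_instance) u).ncard = P
    generalize (@orbit K0 G (by letI := actG; infer_instance) u).ncard = P0
    generalize Nat.card K = k, Nat.card K0 = k0, Nat.card M = m1, Nat.card M0 = m0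
    generalize Nat.card X = x at hX ⊢
    intros
    apply Nat.eq_of_mul_eq_mul_right hX
    subst_vars
    simp only [mul_assoc] at *
    simp_all
  refine (Nat.mul_le_mul (Nat.mul_le_mul_left _ hcO) hP0).trans (key.ge.trans ?_)
  exact Nat.mul_le_mul hι hP

end Lin

end Derange5732
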