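import Cfsg.Agent.Derange5732.Linear.Basic

/-!
# Small lemmas for the linear case
-/

set_option autoImplicit false

namespace Derange5732

open scoped Classical

variable {G : Type*} [Group G]

theorem closure_comm {T : Set G} (h : ∀ a ∈ T, ∀ b ∈ T, a * b = b * a) :
    ∀ x ∈ Subgroup.closure T, ∀ y ∈ Subgroup.closure T, x * y = y * x := by
  have h1 : Subgroup.closure T ≤ Subgroup.centralizer T := by
    rw [Subgroup.closure_le]
    exact fun a ha => Subgroup.mem_centralizer_iff.2 fun b hb => h b hb a ha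
  have h2 : Subgroup.closure T ≤ Subgroup.centralizer (Subgroup.closure T : Set G) := by
    rw [Subgroup.closure_le]
    exact fun a ha => Subgroup.mem_centralizer_iff.2 fun b hb =>
      (Subgroup.mem_centralizer_iff.1 (h1 hb) a ha).symm
  exact fun x hx y hy => (Subgroup.mem_centralizer_iff.1 (h2 hx) y hy).symm

theorem mem_of_pow_mem_of_prime [Finite G] {H : Subgroup G} {b : G} {r : ℕ} (hr : r.Prime)
    (hb : orderOf b = r) {k : ℕ} (hk : ¬ r ∣ k) (h : b ^ k ∈ H) : b ∈ H := by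
  obtain ⟨j, hj⟩ := exists_pow_eq_self_of_coprime (n := k) (x := b)
    (hb ▸ Nat.coprime_comm.1 ((hr.coprime_iff_not_dvd).2 hk))
  rw [← hj]
  exact H.pow_mem h j

theorem mem_of_zpow_mem_of_prime [Finite G] {H : Subgroup G} {b : G} {r : ℕ} (hr : r.Prime)
    (hb : orderOf b = r) {k : ℤ} (hk : b ^ k ≠ 1) (h : b ^ k ∈ H) : b ∈ H := by
  obtain ⟨n, hn⟩ : ∃ n : ℕ, b ^ n = b ^ k :=
    (isOfFinOrder_of_finite b).mem_zpowers_iff_mem_range_orderOf.1 ⟨k, rfl⟩ |> fun h => by
      obtain ⟨n, -, hn⟩ := Finset.mem_image.1 h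
      exact ⟨n, hn⟩
  refine mem_of_pow_mem_of_prime hr hb (k := n) (fun hd => hk ?_) (hn ▸ h)
  rw [← hn, ← hb] at *
  exact orderOf_dvd_iff_pow_eq_one.1 hd

theorem exists_pow_eq_of_mem_zpowers [Finite G] {z w : G} (hw : w ∈ Subgroup.zpowers z) :
    ∃ i < orderOf z, z ^ i = w := by
  rw [(isOfFinOrder_of_finite z).mem_zpowers_iff_mem_range_orderOf] at hw
  obtain ⟨n, hn, hn'⟩ := Finset.mem_image.1 hw
  exact ⟨n, Finset.mem_range.1 hn, hn'⟩

theorem pow_mul_pow_class_two {a b c : G} (hca : Commute c a) (hcb : Commute c b)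
    (hba : b * a = c * (a * b)) (n : ℕ) :
    (a * b) ^ n = a ^ n * b ^ n * c ^ (n.choose 2) := by
  have hb : ∀ m : ℕ, b ^ m * a = a * b ^ m * c ^ m := by
    intro m
    induction m with
    | zero => simp
    | succ m ih =>
      calc b ^ (m + 1) * a = b * (b ^ m * a) := by rw [pow_succ', mul_assoc]
        _ = (b * a) * b ^ m * c ^ m := by rw [ih]; simp only [mul_assoc]
        _ = c * (a * (b ^ (m + 1))) * c ^ m := by rw [hba, pow_succ']; simp only [mul_assoc]
        _ = a * b ^ (m + 1) * c ^ (m + 1) := by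
          rw [((hca.mul_right (hcb.pow_right (m + 1)))).eq, mul_assoc _ c, ← pow_succ']
  induction n with
  | zero => simp
  | succ n ih =>
    calc (a * b) ^ (n + 1) = a ^ n * b ^ n * c ^ (n.choose 2) * (a * b) := by rw [pow_succ, ih]
      _ = a ^ n * (b ^ n * a) * b * c ^ (n.choose 2) := by
          rw [mul_assoc (a ^ n * b ^ n), ((hca.mul_right hcb).pow_left _).eq]
          simp only [mul_assoc]
      _ = a ^ (n + 1) * b ^ (n + 1) * c ^ ((n + 1).choose 2) := by
          rw [hb, Nat.choose_succ_succ' n 1, Nat.choose_one_right, pow_add c n, pow_succ a n, pow_succ b n]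
          simp only [mul_assoc]
          rw [← mul_assoc (c ^ n) b, (hcb.pow_left n).eq]
          simp only [mul_assoc]

/-- Commutation with a fixed element is multiplicative on a class two group. -/
theorem conj_pow_of_central {x y w : G} (hyx : y * x * y⁻¹ = x * w) (hyw : Commute y w) (t : ℕ) :
    y ^ t * x * (y ^ t)⁻¹ = x * w ^ t := by
  induction t with
  | zero => simp
  | succ t ih =>
    have h1 : y ^ (t + 1) * x * (y ^ (t + 1))⁻¹ = y * (y ^ t * x * (y ^ t)⁻¹) * y⁻¹ := by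
      rw [pow_succ']; group
    rw [h1, ih]
    calc y * (x * w ^ t) * y⁻¹ = (y * x * y⁻¹) * (y * w ^ t * y⁻¹) := by group
      _ = x * w * w ^ t := by rw [hyx, (hyw.pow_right t).eq]; group
      _ = x * w ^ (t + 1) := by rw [mul_assoc, ← pow_succ']

theorem card_cS_conj {S : Subgroup G} {g : G}
    (hg : g ∈ Subgroup.normalizer (S : Set G)) (K : Subgroup G) :
    Nat.card (cS S (K.map (MulAut.conj g).toMonoidHom)) = Nat.card (cS S K) := by
  have h1 : cS S (K.map (MulAut.conj g).toMonoidHom) = (cS S K).map (MulAut.conj g).toMonoidHom := by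
    ext s
    constructor
    · intro hs
      obtain ⟨hsS, hsK⟩ := mem_cS.1 hs
      refine ⟨g⁻¹ * s * g, mem_cS.2 ⟨?_, fun k hk => ?_⟩, by simp [mul_assoc]⟩
      · simpa using Subgroup.le_normalizer_iff.1 (le_refl _) g⁻¹ (inv_mem hg) s hsS
      · have h2 : g * k * g⁻¹ * s = s * (g * k * g⁻¹) := hsK _ ⟨k, hk, rfl⟩
        calc k * (g⁻¹ * s * g) = g⁻¹ * (g * k * g⁻¹ * s) * g := by group
          _ = g⁻¹ * s * g * k := by rw [h2]; group
    · rintro ⟨t, ht, rfl⟩
      obtain ⟨htS, htK⟩ := mem_cS.1 ht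
      refine mem_cS.2 ⟨Subgroup.le_normalizer_iff.1 (le_refl _) g hg t htS, ?_⟩
      rintro _ ⟨k, hk, rfl⟩
      show g * k * g⁻¹ * (g * t * g⁻¹) = g * t * g⁻¹ * (g * k * g⁻¹)
      calc g * k * g⁻¹ * (g * t * g⁻¹) = g * (k * t) * g⁻¹ := by group
        _ = _ := by rw [htK k hk]; group
  rw [h1, Subgroup.card_map_of_injective (MulEquiv.injective _)]

theorem card_cS_zpowers_conj {S : Subgroup G} {g x x' : G}
    (hg : g ∈ Subgroup.normalizer (S : Set G)) (h : g * x * g⁻¹ = x') :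
    Nat.card (cS S (Subgroup.zpowers x')) = Nat.card (cS S (Subgroup.zpowers x)) := by
  rw [← card_cS_conj hg (Subgroup.zpowers x), MonoidHom.map_zpowers]
  rw [← h]; rfl

/-- An element of prime order that moves `u` gives at least `r` conjugates of `u`. -/
theorem prime_le_ncard_conj [Finite G] {b u : G} {r : ℕ} (hr : r.Prime) (hb : b ^ r = 1)
    (hbu : b * u ≠ u * b) {W : Set G} (hW : ∀ i : ℕ, b ^ i * u * (b ^ i)⁻¹ ∈ W) :
    r ≤ W.ncard := by
  have hord : orderOf b = r := by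
    rcases (Nat.dvd_prime hr).1 (orderOf_dvd_of_pow_eq_one hb) with h | h
    · exact absurd (by rw [orderOf_eq_one_iff.1 h]; simp) hbu
    · exact h
  let f : Fin r → G := fun i => b ^ (i : ℕ) * u * (b ^ (i : ℕ))⁻¹
  have hinj : Function.Injective f := by
    suffices ∀ i j : Fin r, i.1 < j.1 → f i ≠ f j by
      intro i j hij
      rcases lt_trichotomy i.1 j.1 with h | h | h
      · exact absurd hij (this i j h)
      · exact Fin.ext h
      · exact absurd hij.symm (this j i h)
    intro i j hij he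
    obtain ⟨d, hd⟩ : ∃ d, j.1 = i.1 + d := ⟨j.1 - i.1, by omega⟩
    have hmem : b ^ d ∈ Subgroup.centralizer {u} := by
      rw [Subgroup.mem_centralizer_singleton_iff]
      simp only [f, hd, pow_add] at he
      have h1 : u = b ^ d * u * (b ^ d)⁻¹ := by
        have := congrArg (fun w => (b ^ (i : ℕ))⁻¹ * w * b ^ (i : ℕ)) he
        simpa [mul_assoc] using this
      calc b ^ d * u = b ^ d * u * (b ^ d)⁻¹ * b ^ d := by group
        _ = u * b ^ d := by rw [← h1]
    have := mem_of_pow_mem_of_prime hr hord (k := d) (fun hdr => by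
      have := Nat.le_of_dvd (by omega) hdr
      omega) hmem
    exact hbu (Subgroup.mem_centralizer_singleton_iff.1 this)
  calc r = (Set.range f).ncard := by
        rw [← Nat.card_coe_set_eq, Nat.card_range_of_injective hinj, Nat.card_fin]
    _ ≤ W.ncard := Set.ncard_le_ncard (by rintro _ ⟨i, rfl⟩; exact hW i)

theorem four_mul_le_of_log {L n : ℕ} (hn : 2 ^ 256 ≤ n) (hL : L = Nat.log 2 n) :
    16 * L ^ 16 ≤ n := by
  have h256 : 256 ≤ L := hL ▸ Nat.le_log_of_pow_le one_lt_two hn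
  set j := Nat.log 2 L
  have hj : 8 ≤ j := Nat.le_log_of_pow_le one_lt_two (by norm_num; omega)
  have key : ∀ j, 8 ≤ j → 20 + 16 * j ≤ 2 ^ j := by
    intro j hj
    induction j, hj using Nat.le_induction with
    | base => norm_num
    | succ k hk ih => rw [pow_succ]; omega
  have hn0 : n ≠ 0 := by
    intro h; rw [h] at hn; exact absurd hn (by norm_num)
  calc 16 * L ^ 16 ≤ 2 ^ 4 * (2 ^ (j + 1)) ^ 16 :=
        Nat.mul_le_mul (by norm_num) (Nat.pow_le_pow_left (Nat.lt_pow_succ_log_self one_lt_two L).le 16)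
    _ = 2 ^ (20 + 16 * j) := by rw [← pow_mul, ← pow_add]; congr 1; ring
    _ ≤ 2 ^ (2 ^ j) := Nat.pow_le_pow_right (by norm_num) (key j hj)
    _ ≤ 2 ^ L := Nat.pow_le_pow_right (by norm_num) (Nat.pow_log_le_self 2 (by omega))
    _ ≤ n := hL ▸ Nat.pow_log_le_self 2 hn0

theorem sq_le_of_abelian_bound {m k u n r : ℕ} (hr : 2 ≤ r) (hk : 2 ≤ k) (hru : r + 1 ≤ u)
    (hm : m * r ≤ k * (u - 1)) (hn : u ^ k ≤ n) : (m + 1) ^ 2 ≤ n := by
  have h1 : 2 * (m + 1) ≤ k * u := by
    obtain ⟨w, rfl⟩ : ∃ w, u = w + 1 := ⟨u - 1, by omega⟩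
    simp at hm
    nlinarith
  have h2 : k ^ 2 * u ^ 2 ≤ 4 * u ^ k := by
    have key : ∀ k, 2 ≤ k → k ^ 2 * u ^ 2 ≤ 4 * u ^ k := by
      intro k hk
      induction k, hk using Nat.le_induction with
      | base => norm_num
      | succ j hj ih =>
        rw [pow_succ u j]
        have h3 : (j + 1) ^ 2 ≤ u * j ^ 2 := by
          have h4 : 3 * j ^ 2 ≤ u * j ^ 2 := Nat.mul_le_mul_right _ (by omega)
          nlinarith
        calc (j + 1) ^ 2 * u ^ 2 ≤ u * j ^ 2 * u ^ 2 := Nat.mul_le_mul_right _ h3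
          _ ≤ u * (4 * u ^ j) := by rw [mul_assoc]; exact Nat.mul_le_mul_left u ih
          _ = 4 * (u ^ j * u) := by ring
    exact key k hk
  nlinarith [Nat.pow_le_pow_left h1 2]

end Derange5732
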