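import Cfsg.Agent.Derange5732.Linear.Basic

/-!
# The class two bound: `|Y : Z(Y)| ≤ (dim S)²`
-/

set_option autoImplicit false

namespace Derange5732

open scoped Classical

variable {G : Type*} [Group G]

/-- Coset representatives modulo the centre are independent endomorphisms. -/
theorem card_quot_center_le_of_action {p : ℕ} [Fact p.Prime] {V : Type*} [AddCommGroup V]
    [Module (ZMod p) V] [Finite V] [Nontrivial V] {Y : Type*} [Group Y] [Finite Y]
    [DistribMulAction Y V] {z : Y} (hzc : ∀ y : Y, Commute z y)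
    (hcomm : ∀ x y : Y, x * y * x⁻¹ * y⁻¹ ∈ Subgroup.zpowers z)
    (hfix : ∀ w ∈ Subgroup.zpowers z, w ≠ 1 → ∀ v : V, w • v = v → v = 0)
    {e : ℕ} (hcard : Nat.card V = p ^ e) :
    Nat.card (Y ⧸ Subgroup.center Y) ≤ e * e := by
  let ρ : Y →* Module.End (ZMod p) V :=
    { toFun := fun y => AddMonoidHom.toZModLinearMap p (DistribSMul.toAddMonoidHom V y)
      map_one' := LinearMap.ext fun v => one_smul Y v
      map_mul' := fun a b => LinearMap.ext fun v => mul_smul a b v }
  have : Module.Finite (ZMod p) V := Module.Finite.of_finite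
  let Q := Y ⧸ Subgroup.center Y
  -- injectivity of differences
  have hdiff : ∀ ω ω' : Y, ω ∈ Subgroup.zpowers z → ω' ∈ Subgroup.zpowers z → ω ≠ ω' →
      Function.Injective ⇑(ρ ω - ρ ω' : Module.End (ZMod p) V) := by
    intro ω ω' hω hω' hne
    rw [injective_iff_map_eq_zero]
    intro v hv
    rw [LinearMap.sub_apply, sub_eq_zero] at hv
    have h1 : ρ (ω'⁻¹ * ω) v = v := by
      rw [map_mul, Module.End.mul_apply, hv, ← Module.End.mul_apply, ← map_mul, inv_mul_cancel,
        map_one, Module.End.one_apply]
    refine hfix (ω'⁻¹ * ω) ((Subgroup.zpowers z).mul_mem ((Subgroup.zpowers z).inv_mem hω') hω)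
      (fun he => hne (eq_of_inv_mul_eq_one he).symm) v ?_
    exact h1
  have key : ∀ (s : Finset Q) (c : Q → Module.End (ZMod p) V),
      (∀ q ∈ s, ∀ y : Y, c q * ρ y = ρ y * c q) → ∑ q ∈ s, c q * ρ q.out = 0 →
      ∀ q ∈ s, c q = 0 := by
    intro s
    induction s using Finset.strongInduction with
    | H s ih =>
      intro c hc hsum q0 hq0
      have hothers : ∀ q1 ∈ s, q1 ≠ q0 → c q1 = 0 := by
        intro q1 hq1 hne
        obtain ⟨y, hy⟩ : ∃ y : Y, y * (q0.out⁻¹ * q1.out) ≠ q0.out⁻¹ * q1.out * y := by
          by_contra hall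
          push Not at hall
          apply hne
          rw [← q1.out_eq', ← q0.out_eq']
          exact (QuotientGroup.eq.2 (Subgroup.mem_center_iff.2 hall)).symm
        set ω : Q → Y := fun q => y * q.out * y⁻¹ * q.out⁻¹ with hω
        have hωz : ∀ q, ω q ∈ Subgroup.zpowers z := fun q => hcomm _ _
        have hωc : ∀ q, ∀ w : Y, ω q * w = w * ω q := by
          intro q w
          obtain ⟨k, hk⟩ := hωz q
          rw [← hk]
          exact ((hzc w).zpow_left k).eq
        set c' : Q → Module.End (ZMod p) V := fun q => c q * (ρ (ω q) - ρ (ω q0))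
        have hsum' : ∑ q ∈ s.erase q0, c' q * ρ q.out = 0 := by
          rw [Finset.sum_erase _ (by simp [c'])]
          have h1 : ∑ q ∈ s, c q * ρ (ω q) * ρ q.out = 0 := by
            have h2 : ρ y * (∑ q ∈ s, c q * ρ q.out) * ρ y⁻¹ = 0 := by simp [hsum]
            rw [Finset.mul_sum, Finset.sum_mul] at h2
            rw [← h2]
            refine Finset.sum_congr rfl fun q hq => ?_
            rw [← mul_assoc (ρ y), ← hc q hq y, mul_assoc, mul_assoc, mul_assoc, ← map_mul,
              ← map_mul, ← map_mul]
            congr 2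
            simp [hω, mul_assoc]
          have h3 : ∑ q ∈ s, c q * ρ (ω q0) * ρ q.out = 0 := by
            have h4 : ρ (ω q0) * (∑ q ∈ s, c q * ρ q.out) = 0 := by simp [hsum]
            rw [Finset.mul_sum] at h4
            rw [← h4]
            refine Finset.sum_congr rfl fun q hq => ?_
            rw [← mul_assoc, hc q hq]
          simp only [c', mul_sub, sub_mul]
          rw [Finset.sum_sub_distrib, h1, h3, sub_zero]
        have h0 : c' q1 = 0 := by
          refine ih (s.erase q0) (Finset.erase_ssubset hq0) c' ?_ hsum' q1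
            (Finset.mem_erase.2 ⟨hne, hq1⟩)
          intro q hq w
          simp only [c']
          have hcom : (ρ (ω q) - ρ (ω q0)) * ρ w = ρ w * (ρ (ω q) - ρ (ω q0)) := by
            rw [sub_mul, mul_sub, ← map_mul, ← map_mul, ← map_mul, ← map_mul, hωc, hωc]
          rw [mul_assoc, hcom, ← mul_assoc, hc q (Finset.mem_of_mem_erase hq) w, mul_assoc]
        have hne' : ω q1 ≠ ω q0 := by
          intro he
          apply hy
          have e1 : y * q1.out = ω q1 * q1.out * y := by simp [hω]
          have e0 : y * q0.out = ω q0 * q0.out * y := by simp [hω]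
          calc y * (q0.out⁻¹ * q1.out)
              = (y * q0.out * y⁻¹)⁻¹ * (y * q1.out) := by group
            _ = (ω q0 * q0.out)⁻¹ * (ω q1 * q1.out * y) := by rw [e1, e0]; group
            _ = q0.out⁻¹ * q1.out * y := by rw [he]; group
        have hsurj : Function.Surjective (ρ (ω q1) - ρ (ω q0)) := by
          exact Finite.surjective_of_injective (hdiff _ _ (hωz q1) (hωz q0) hne')
        ext v
        obtain ⟨w, rfl⟩ := hsurj v
        exact LinearMap.congr_fun h0 w
      have h1 : c q0 * ρ q0.out = 0 := by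
        rw [← hsum, Finset.sum_eq_single q0]
        · intro q hq hne; simp [hothers q hq hne]
        · intro h; exact absurd hq0 h
      have h2 := congrArg (· * ρ (q0.out⁻¹)) h1
      simpa [mul_assoc, ← map_mul] using h2
  have hli : LinearIndependent (ZMod p) fun q : Q => ρ q.out := by
    have : Fintype Q := Fintype.ofFinite Q
    rw [Fintype.linearIndependent_iff]
    intro a ha q
    have := key Finset.univ (fun q => a q • 1) (fun q _ y => by simp) (by simpa using ha) q
      (Finset.mem_univ q)
    exact (smul_eq_zero.1 this).resolve_right one_ne_zero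
  have : Fintype Q := Fintype.ofFinite Q
  have hle := hli.fintype_card_le_finrank
  rw [Module.finrank_linearMap, ← Nat.card_eq_fintype_card] at hle
  have hfr : Module.finrank (ZMod p) V = e := by
    have h1 := Module.natCard_eq_pow_finrank (K := ZMod p) (V := V)
    rw [Nat.card_zmod, hcard] at h1
    exact (Nat.pow_right_injective (Fact.out : p.Prime).two_le h1).symm
  rw [hfr] at hle
  exact hle

namespace Lin

variable {D A S : Subgroup G} {p : ℕ}

theorem card_le_sq_mul_center [Finite G] (h : Lin D A S p) {Y : Subgroup G} (hY : Y ≤ A) {z : G}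
    (hzY : z ∈ Y) (hzc : ∀ y ∈ Y, z * y = y * z)
    (hcomm : ∀ x ∈ Y, ∀ y ∈ Y, x * y * x⁻¹ * y⁻¹ ∈ Subgroup.zpowers z)
    (hfpf : ∀ w ∈ Subgroup.zpowers z, w ≠ 1 → ∀ s ∈ S, w * s = s * w → s = 1)
    {e : ℕ} (hS : Nat.card S = p ^ e) (hS1 : 1 < Nat.card S) :
    Nat.card Y ≤ e * e * Nat.card ↥(Y ⊓ Subgroup.centralizer (Y : Set G)) := by
  have : Fact p.Prime := ⟨h.pp⟩
  let _ := h.commGroup
  let _ := h.conjAct Y hY
  let _ : @Module (ZMod p) (Additive S) _ (Additive.addCommGroup (α := S)).toAddCommMonoid := AddCommGroup.zmodModule fun v =>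
    Additive.toMul.injective
      (show (Additive.toMul v) ^ p = 1 from Subtype.ext (h.exp _ (Additive.toMul v).2))
  let _ : DistribMulAction Y (Additive S) :=
    { smul := fun y v => Additive.ofMul (y • Additive.toMul v)
      one_smul := fun v => congrArg Additive.ofMul (one_smul Y (Additive.toMul v : S))
      mul_smul := fun a b v => congrArg Additive.ofMul (mul_smul a b (Additive.toMul v : S))
      smul_zero := fun a => congrArg Additive.ofMul (smul_one a)
      smul_add := fun a u v =>
        congrArg Additive.ofMul (smul_mul' a (Additive.toMul u) (Additive.toMul v)) }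
  have : Nontrivial (Additive S) := Finite.one_lt_card_iff_nontrivial.1 hS1
  have : Finite (Additive S) := (inferInstance : Finite S)
  have hle := card_quot_center_le_of_action (p := p) (V := Additive S) (Y := Y) (z := ⟨z, hzY⟩)
    (fun y => Subtype.ext (hzc y.1 y.2))
    (fun x y => by
      obtain ⟨k, hk⟩ := hcomm x.1 x.2 y.1 y.2
      exact ⟨k, Subtype.ext hk⟩)
    (fun w hw hw1 v hv => by
      obtain ⟨k, hk⟩ := hw
      apply Additive.toMul.injective
      refine Subtype.ext (hfpf w.1 ⟨k, by rw [← hk]; rfl⟩ (fun he => hw1 (Subtype.ext he)) _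
        (Additive.toMul v).2 (mul_inv_eq_iff_eq_mul.1 ?_))
      exact congrArg (fun x : Additive S => (Additive.toMul x).1) hv)
    (e := e) hS
  have hc : Nat.card (Subgroup.center Y) = Nat.card ↥(Y ⊓ Subgroup.centralizer (Y : Set G)) := by
    refine Nat.card_congr ⟨fun w => ⟨w.1.1, w.1.2, ?_⟩, fun w => ⟨⟨w.1, w.2.1⟩, ?_⟩,
      fun _ => rfl, fun _ => rfl⟩
    · exact Subgroup.mem_centralizer_iff.2 fun g hg =>
        congrArg Subtype.val (Subgroup.mem_center_iff.1 w.2 ⟨g, hg⟩)
    · exact Subgroup.mem_center_iff.2 fun g =>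
        Subtype.ext (Subgroup.mem_centralizer_iff.1 w.2.2 g.1 g.2)
  rw [Subgroup.card_eq_card_quotient_mul_card_subgroup (Subgroup.center Y), hc]
  exact Nat.mul_le_mul_right _ hle

end Lin

end Derange5732
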