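import Mathlib

/-!
# r-groups generated by elements of order r without large elements central modulo `⟨z⟩`
-/

set_option autoImplicit false

namespace Derange5732

open scoped Classical

variable {Y : Type*} [Group Y]

theorem exists_central_mod [Group.IsNilpotent Y] {B C : Subgroup Y} [B.Normal]
    (h : ¬ B ≤ C) : ∃ x ∈ B, x ∉ C ∧ ∀ y : Y, x * y * x⁻¹ * y⁻¹ ∈ C := by
  obtain ⟨n, hn⟩ := Group.IsNilpotent.nilpotent' (G := Y)
  have hex : ∃ i, ¬ B ⊓ Subgroup.upperCentralSeries Y i ≤ C := ⟨n, by simpa [hn] using h⟩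
  set i := Nat.find hex with hi
  obtain ⟨x, hx, hxC⟩ := SetLike.not_le_iff_exists.1 (Nat.find_spec hex)
  rcases Nat.eq_zero_or_pos i with h0 | h0
  · rw [hi] at h0
    rw [h0] at hx
    simp at hx
    exact absurd (hx ▸ C.one_mem) hxC
  obtain ⟨j, hj⟩ : ∃ j, i = j + 1 := ⟨i - 1, by omega⟩
  have hjC : B ⊓ Subgroup.upperCentralSeries Y j ≤ C := by
    by_contra hc
    have := Nat.find_min' hex hc
    omega
  refine ⟨x, hx.1, hxC, fun y => hjC ⟨?_, ?_⟩⟩
  · have h1 : y * x⁻¹ * y⁻¹ ∈ B := Subgroup.Normal.conj_mem inferInstance _ (B.inv_mem hx.1) y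
    have := B.mul_mem hx.1 h1
    simpa [mul_assoc] using this
  · have h1 := hx.2
    rw [← hi, hj] at h1
    exact (Subgroup.mem_upperCentralSeries_succ_iff.1 h1) y

theorem geom_modEq (a r : ℕ) (ha : a ≡ 1 [MOD r]) (hr : Odd r) :
    (∑ i ∈ Finset.range r, a ^ i) ≡ r [MOD r * r] := by
  obtain ⟨k, rfl⟩ := hr
  rw [← ZMod.natCast_eq_natCast_iff]
  set q : ZMod ((2 * k + 1) * (2 * k + 1)) := Nat.cast (2 * k + 1)
  obtain ⟨t, ht⟩ : ∃ t : ZMod ((2 * k + 1) * (2 * k + 1)), (a : ZMod _) = 1 + q * t := by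
    rw [← Int.natCast_modEq_iff, Int.modEq_iff_dvd] at ha
    obtain ⟨c, hc⟩ := ha
    refine ⟨((-c : ℤ) : ZMod _), ?_⟩
    have h1 : (a : ℤ) = 1 + ((2 * k + 1 : ℕ) : ℤ) * (-c) := by
      push_cast at hc ⊢
      linarith
    have h2 := congrArg (fun x : ℤ => (x : ZMod ((2 * k + 1) * (2 * k + 1)))) h1
    push_cast at h2 ⊢
    simpa [q] using h2
  have hq : q * q = 0 := by
    simp only [q, ← Nat.cast_mul]
    exact ZMod.natCast_self _
  have hpow : ∀ i : ℕ, (1 + q * t) ^ i = 1 + (i : ZMod ((2 * k + 1) * (2 * k + 1))) * (q * t) := by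
    intro i
    induction i with
    | zero => simp
    | succ i ih =>
      rw [pow_succ, ih]
      push_cast
      linear_combination ((i : ZMod ((2 * k + 1) * (2 * k + 1))) * t * t) * hq
  push_cast
  simp only [ht, hpow, Finset.sum_add_distrib, Finset.sum_const, Finset.card_range, nsmul_eq_mul,
    mul_one, ← Finset.sum_mul]
  have hs : ∑ i ∈ Finset.range (2 * k + 1), i = (2 * k + 1) * k := by
    have := Finset.sum_range_id_mul_two (2 * k + 1)
    simp at this
    nlinarith
  rw [← Nat.cast_sum, hs]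
  push_cast
  have : q = 2 * (k : ZMod ((2 * k + 1) * (2 * k + 1))) + 1 := by simp [q]
  rw [← this]
  linear_combination ((k : ZMod ((2 * k + 1) * (2 * k + 1))) * t) * hq

set_option maxHeartbeats 1000000 in
/-- The conclusion used later: `r = 2` and there are at most twice as many involutions outside
`⟨z⟩` as there are conjugates of any one of them. -/
theorem noExtraspecial [Finite Y] {r : ℕ} (hr : r.Prime) (hY : IsPGroup r Y) {z : Y}
    (hz : orderOf z = r) (hzc : ∀ y : Y, Commute z y)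
    (hcent : ∀ x : Y, (∀ y : Y, Commute x y) → x ^ r = 1 → x ∈ Subgroup.zpowers z)
    (hno : ∀ x : Y, x ^ r = 1 → (∀ y : Y, x * y * x⁻¹ * y⁻¹ ∈ Subgroup.zpowers z) →
      x ∈ Subgroup.zpowers z)
    (hgen : Subgroup.closure {x : Y | x ^ r = 1} = ⊤)
    (hna : ¬ ∀ x y : Y, Commute x y) :
    r = 2 ∧ ∀ h : Y, h ^ 2 = 1 → h ∉ Subgroup.zpowers z →
      {x : Y | x ^ 2 = 1 ∧ x ∉ Subgroup.zpowers z}.ncard
        ≤ 2 * (Set.range fun y : Y => y * h * y⁻¹).ncard ∧ ∃ y : Y, y * h * y⁻¹ = h * z := by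
  have := Fact.mk hr
  have := hY.isNilpotent
  -- maximal normal abelian subgroup
  obtain ⟨C, ⟨hCn, hCa⟩, hmax⟩ := Set.Finite.exists_maximal
    (Set.toFinite {C : Subgroup Y | C.Normal ∧ ∀ x ∈ C, ∀ y ∈ C, Commute x y})
    ⟨⊥, inferInstance, fun x hx y _ => by simp [Subgroup.mem_bot.1 hx]⟩
  have hzz : ∀ x ∈ Subgroup.zpowers z, ∀ y : Y, Commute x y := by
    rintro _ ⟨k, rfl⟩ y
    exact (hzc y).zpow_left k
  -- adjoining an element central modulo C
  have hadj : ∀ x : Y, (∀ c ∈ C, Commute x c) → (∀ y : Y, x * y * x⁻¹ * y⁻¹ ∈ C) → x ∈ C := by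
    intro x hxC hxy
    have hle : C ⊔ Subgroup.zpowers x ≤ C := by
      refine hmax ⟨?_, ?_⟩ le_sup_left
      · rw [← Subgroup.normalizer_eq_top_iff, eq_top_iff, Subgroup.le_normalizer_iff]
        intro g _ w hw
        have : C ⊔ Subgroup.zpowers x ≤ Subgroup.comap (MulAut.conj g).toMonoidHom
            (C ⊔ Subgroup.zpowers x) := by
          refine sup_le (fun c hc => Subgroup.mem_sup_left (hCn.conj_mem c hc g))
            (Subgroup.zpowers_le.2 ?_)
          show g * x * g⁻¹ ∈ C ⊔ Subgroup.zpowers x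
          have h1 : g * x * g⁻¹ = (x * g * x⁻¹ * g⁻¹)⁻¹ * x := by group
          rw [h1]
          exact Subgroup.mul_mem _ (Subgroup.mem_sup_left (C.inv_mem (hxy g)))
            (Subgroup.mem_sup_right (Subgroup.mem_zpowers x))
        exact this hw
      · have hcl : C ⊔ Subgroup.zpowers x ≤ Subgroup.centralizer
            ((C ⊔ Subgroup.zpowers x : Subgroup Y) : Set Y) := by
          rw [Subgroup.sup_eq_closure]
          refine Subgroup.closure_le_centralizer_centralizer _ |>.trans ?_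
          refine Subgroup.centralizer_le ?_
          intro w hw
          rw [SetLike.mem_coe, Subgroup.mem_centralizer_iff]
          rintro v (hv | ⟨k, rfl⟩)
          · have hsub : Subgroup.closure ((C : Set Y) ∪ Subgroup.zpowers x) ≤
                Subgroup.centralizer {v} := by
              rw [Subgroup.closure_le]
              rintro u (hu | ⟨l, rfl⟩) <;>
                rw [SetLike.mem_coe, Subgroup.mem_centralizer_singleton_iff]
              · exact hCa u hu v hv
              · exact ((hxC v hv).zpow_left l).eq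
            exact (Subgroup.mem_centralizer_singleton_iff.1 (hsub hw)).symm
          · have hsub : Subgroup.closure ((C : Set Y) ∪ Subgroup.zpowers x) ≤
                Subgroup.centralizer {x ^ k} := by
              rw [Subgroup.closure_le]
              rintro u (hu | ⟨l, rfl⟩) <;>
                rw [SetLike.mem_coe, Subgroup.mem_centralizer_singleton_iff]
              · exact ((hxC u hu).zpow_left k).symm.eq
              · exact ((Commute.refl x).zpow_zpow l k).eq
            exact (Subgroup.mem_centralizer_singleton_iff.1 (hsub hw)).symm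
        intro a ha b hb
        exact (Subgroup.mem_centralizer_iff.1 (hcl ha) b hb).symm
    exact hle (Subgroup.mem_sup_right (Subgroup.mem_zpowers x))
  have hself : ∀ x : Y, (∀ c ∈ C, Commute x c) → x ∈ C := by
    by_contra hc
    push Not at hc
    obtain ⟨x, hx, hxC⟩ := hc
    have : (Subgroup.centralizer (C : Set Y)).Normal := Subgroup.normal_centralizer
    obtain ⟨w, hw, hwC, hwy⟩ := exists_central_mod (B := Subgroup.centralizer (C : Set Y)) (C := C)
      fun hle => hxC (hle (Subgroup.mem_centralizer_iff.2 fun c hc => (hx c hc).symm.eq))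
    exact hwC (hadj w (fun c hc => (Subgroup.mem_centralizer_iff.1 hw c hc).symm) hwy)
  have hzC : Subgroup.zpowers z ≤ C := fun x hx => hself x fun c _ => hzz x hx c
  -- elements with x^r = 1 in C lie in ⟨z⟩
  have hC1 : ∀ x ∈ C, x ^ r = 1 → x ∈ Subgroup.zpowers z := by
    let B : Subgroup Y :=
      { carrier := {x | x ∈ C ∧ x ^ r = 1}
        one_mem' := ⟨C.one_mem, one_pow r⟩
        mul_mem' := fun {a b} ha hb => ⟨C.mul_mem ha.1 hb.1, by
          rw [(hCa a ha.1 b hb.1).mul_pow, ha.2, hb.2, mul_one]⟩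
        inv_mem' := fun {a} ha => ⟨C.inv_mem ha.1, by rw [inv_pow, ha.2, inv_one]⟩ }
    have : B.Normal := ⟨fun x hx g => ⟨hCn.conj_mem x hx.1 g, by rw [conj_pow, hx.2]; group⟩⟩
    intro x hx hxr
    by_contra hxz
    obtain ⟨w, hw, hwz, hwy⟩ := exists_central_mod (B := B) (C := Subgroup.zpowers z)
      fun hle => hxz (hle ⟨hx, hxr⟩)
    exact hwz (hno w hw.2 hwy)
  -- C is cyclic
  have hCc : IsCyclic C := by
    let f : C →* Y := { toFun := fun c => c.1 ^ r, map_one' := one_pow r,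
                        map_mul' := fun a b => (hCa a a.2 b b.2).mul_pow r }
    have : Fintype C := Fintype.ofFinite C
    apply isCyclic_of_card_pow_eq_one_le (α := C)
    intro n hn
    -- kernels of powers
    have hcard : ∀ k : ℕ, {c : C | c ^ (r ^ k) = 1}.ncard ≤ r ^ k := by
      intro k
      induction k with
      | zero => simp
      | succ k ih =>
        have hmap : ∀ c ∈ {c : C | c ^ (r ^ (k + 1)) = 1}, c ^ r ∈ {c : C | c ^ (r ^ k) = 1} := by
          intro c hc
          show (c ^ r) ^ (r ^ k) = 1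
          rw [← pow_mul, ← pow_succ']
          exact hc
        have : Fintype C := Fintype.ofFinite C
        rw [Set.ncard_eq_toFinset_card']
        refine (Finset.card_le_mul_card_image_of_maps_to (t := {c : C | c ^ (r ^ k) = 1}.toFinset)
          (f := fun c => c ^ r) (fun c hc => Set.mem_toFinset.2 (hmap c (Set.mem_toFinset.1 hc))) r
          ?_).trans ?_
        · intro b _
          set F := ({c : C | c ^ (r ^ (k + 1)) = 1}.toFinset).filter fun c => c ^ r = b
          by_cases hne : F.Nonempty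
          · obtain ⟨c0, hc0⟩ := hne
            have hle : F.card ≤ (Finset.univ.filter fun c : C => c.1 ∈ Subgroup.zpowers z).card := by
              refine Finset.card_le_card_of_injOn (fun c => c * c0⁻¹) ?_ ?_
              · intro c hc
                simp only [Finset.mem_coe, F, Finset.mem_filter] at hc hc0
                refine Finset.mem_coe.2 (Finset.mem_filter.2 ⟨Finset.mem_univ _, ?_⟩)
                apply hC1 _ (c * c0⁻¹).2
                have h1 : (c * c0⁻¹) ^ r = 1 := by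
                  have hcc : Commute c c0⁻¹ := Subtype.ext (hCa c c.2 _ (c0⁻¹).2).eq
                  rw [hcc.mul_pow, hc.2, inv_pow, hc0.2, mul_inv_cancel]
                exact congrArg Subtype.val h1
              · intro a _ b _ hab
                simpa using hab
            refine hle.trans ?_
            have : Fintype (Subgroup.zpowers z) := Fintype.ofFinite _
            rw [← hz, ← Nat.card_zpowers, Nat.card_eq_fintype_card, ← Finset.card_univ]
            refine Finset.card_le_card_of_injOn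
              (fun c => if h : c.1 ∈ Subgroup.zpowers z then ⟨c.1, h⟩ else 1) (by simp) ?_
            intro a ha b hb hab
            simp only [Finset.coe_filter, Set.mem_ofPred_eq] at ha hb
            simp only [ha.2, hb.2, dif_pos, Subtype.mk.injEq] at hab
            exact Subtype.ext hab
          · rw [Finset.not_nonempty_iff_eq_empty.1 hne]; simp
        · rw [← Set.ncard_eq_toFinset_card', pow_succ']
          exact Nat.mul_le_mul_left r ih
    obtain ⟨N, hN⟩ := (hY.to_subgroup C).exists_card_eq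
    obtain ⟨k, -, hk⟩ := (Nat.dvd_prime_pow hr).1
      ((Nat.gcd_dvd_right n (Nat.card C)).trans (dvd_of_eq hN))
    calc (Finset.univ.filter fun c : C => c ^ n = 1).card
        ≤ {c : C | c ^ (r ^ k) = 1}.ncard := by
          rw [← Set.ncard_coe_finset]
          refine Set.ncard_le_ncard ?_
          intro c hc
          simp only [Finset.coe_filter, Finset.mem_univ, true_and, Set.mem_ofPred_eq] at hc ⊢
          rw [← hk]
          exact pow_gcd_eq_one.2 ⟨hc, pow_card_eq_one'⟩
      _ ≤ r ^ k := hcard k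
      _ ≤ n := hk ▸ Nat.gcd_le_left _ hn
  obtain ⟨⟨g, hg⟩, hgen'⟩ := hCc.exists_generator
  have hgC : ∀ c : Y, c ∈ C → ∃ i : ℕ, g ^ i = c := by
    intro c hc
    have h1 := hgen' ⟨c, hc⟩
    rw [IsOfFinOrder.mem_zpowers_iff_mem_range_orderOf (isOfFinOrder_of_finite _)] at h1
    simp only [Finset.mem_image] at h1
    obtain ⟨i, -, hi⟩ := h1
    exact ⟨i, congrArg Subtype.val hi⟩
  obtain ⟨N, hN⟩ := (hY.to_subgroup C).exists_card_eq
  have hogC : orderOf (⟨g, hg⟩ : C) = r ^ N := by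
    rw [← hN]; exact orderOf_eq_card_of_forall_mem_zpowers hgen'
  have hog : orderOf g = r ^ N := by
    rw [← Subgroup.orderOf_coe (⟨g, hg⟩ : C)] at hogC; exact hogC
  have hN1 : 0 < N := by
    by_contra hc
    have h1 : z ∈ C := hzC (Subgroup.mem_zpowers z)
    obtain ⟨i, hi⟩ := hgC z h1
    have hg1 : g = 1 := by rw [← orderOf_eq_one_iff, hog]; simp at hc; simp [hc]
    rw [hg1, one_pow] at hi
    rw [← hi, orderOf_one] at hz
    exact hr.one_lt.ne hz
  have hexp : ∀ x : Y, ∃ a : ℕ, x * g * x⁻¹ = g ^ a := fun x =>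
    let ⟨i, hi⟩ := hgC _ (hCn.conj_mem g hg x)
    ⟨i, hi.symm⟩
  have hconj : ∀ (x : Y) (a : ℕ), x * g * x⁻¹ = g ^ a → ∀ c ∈ C, x * c * x⁻¹ = c ^ a := by
    intro x a ha c hc
    obtain ⟨i, rfl⟩ := hgC c hc
    rw [← conj_pow, ha, ← pow_mul, ← pow_mul, mul_comm]
  have hiter : ∀ (x : Y) (a : ℕ), x * g * x⁻¹ = g ^ a → ∀ n : ℕ,
      x ^ n * g * (x ^ n)⁻¹ = g ^ (a ^ n) := by
    intro x a ha n
    induction n with
    | zero => simp
    | succ n ih =>
      have h1 : x ^ (n + 1) * g * (x ^ (n + 1))⁻¹ = x * (x ^ n * g * (x ^ n)⁻¹) * x⁻¹ := by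
        rw [pow_succ']; group
      rw [h1, ih, ← conj_pow, ha, ← pow_mul, pow_succ']
  have hprod : ∀ (x : Y) (a : ℕ), x * g * x⁻¹ = g ^ a → ∀ c ∈ C, ∀ n : ℕ,
      (c * x) ^ n = c ^ (∑ i ∈ Finset.range n, a ^ i) * x ^ n := by
    intro x a ha c hc n
    induction n with
    | zero => simp
    | succ n ih =>
      rw [pow_succ', ih, geom_sum_succ, pow_succ' x n, add_comm (a * _) 1, pow_add, pow_one,
        mul_comm a, pow_mul, ← hconj x a ha _ (C.pow_mem hc _)]
      group
  have hquot : ∀ x y : Y, y * x * y⁻¹ * x⁻¹ ∈ C := by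
    intro x y
    obtain ⟨a, ha⟩ := hexp x
    obtain ⟨b, hb⟩ := hexp y
    obtain ⟨a', ha'⟩ := hexp x⁻¹
    obtain ⟨b', hb'⟩ := hexp y⁻¹
    apply hself
    intro c hc
    have e1 : x⁻¹ * c * x = c ^ a' := by simpa using hconj x⁻¹ a' ha' c hc
    have e2 : y⁻¹ * (c ^ a') * y = c ^ (a' * b') := by
      have := hconj y⁻¹ b' hb' (c ^ a') (C.pow_mem hc _)
      rw [← pow_mul] at this
      simpa using this
    have e3 : x * (c ^ (a' * b')) * x⁻¹ = c ^ (a' * b' * a) := by
      rw [hconj x a ha _ (C.pow_mem hc _), ← pow_mul]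
    have e4 : y * (c ^ (a' * b' * a)) * y⁻¹ = c ^ (a' * b' * a * b) := by
      rw [hconj y b hb _ (C.pow_mem hc _), ← pow_mul]
    have hx : c ^ (a' * a) = c := by
      rw [pow_mul, ← hconj x a ha _ (C.pow_mem hc _), ← e1]; group
    have hy : c ^ (b' * b) = c := by
      have := hconj y⁻¹ b' hb' c hc
      rw [pow_mul, ← hconj y b hb _ (C.pow_mem hc _), ← this]; group
    have e5 : (y * x * y⁻¹ * x⁻¹) * c * (y * x * y⁻¹ * x⁻¹)⁻¹ = c := by
      have h1 : (y * x * y⁻¹ * x⁻¹) * c * (y * x * y⁻¹ * x⁻¹)⁻¹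
          = y * (x * (y⁻¹ * (x⁻¹ * c * x) * y) * x⁻¹) * y⁻¹ := by group
      rw [h1, e1, e2, e3, e4, show a' * b' * a * b = (a' * a) * (b' * b) by ring, pow_mul, hx, hy]
    exact mul_inv_eq_iff_eq_mul.1 e5
  have hbad : ∀ x : Y, x ^ r = 1 → x ∉ C → ∀ a : ℕ, x * g * x⁻¹ = g ^ a →
      (r ≠ 2 ∨ a ≡ 1 [MOD 4]) → False := by
    intro x hx hxC a ha h4
    have ha1 : a ≡ 1 [MOD r] := by
      have h1 := hiter x a ha r
      rw [hx] at h1
      have h2 : g ^ (1 : ℕ) = g ^ (a ^ r) := by simpa using h1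
      rw [pow_eq_pow_iff_modEq, hog] at h2
      have h3 : 1 ≡ a ^ r [MOD r] := h2.of_dvd (dvd_pow_self r hN1.ne')
      have h4 : a ^ r ≡ a [MOD r] := by
        rw [← ZMod.natCast_eq_natCast_iff]; push_cast; exact ZMod.pow_card _
      exact (h3.trans h4).symm
    obtain ⟨u, hu, hS⟩ : ∃ u, u.Coprime r ∧ ∑ i ∈ Finset.range r, a ^ i = r * u := by
      have hmod : ∑ i ∈ Finset.range r, a ^ i ≡ r [MOD r * r] := by
        rcases hr.eq_two_or_odd' with h2 | h2
        · subst h2
          rcases h4 with h4 | h4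
          · exact absurd rfl h4
          · simp [Finset.sum_range_succ]
            exact (Nat.ModEq.add_left 1 h4)
        · exact geom_modEq a r ha1 h2
      have hd : r ∣ ∑ i ∈ Finset.range r, a ^ i :=
        (Nat.modEq_zero_iff_dvd).1 ((hmod.of_dvd (dvd_mul_right r r)).trans
          ((Nat.modEq_zero_iff_dvd).2 dvd_rfl))
      obtain ⟨u, hu⟩ := hd
      refine ⟨u, ?_, hu⟩
      rw [hu] at hmod
      have h1 : u ≡ 1 [MOD r] := by
        apply Nat.ModEq.mul_left_cancel' hr.pos.ne'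
        simpa using hmod
      refine (Nat.coprime_comm).1 ((hr.coprime_iff_not_dvd).2 fun hdu => ?_)
      have := (Nat.ModEq.dvd_iff h1 dvd_rfl).1 hdu
      exact hr.not_dvd_one this
    refine hxC (hzC (hno x hx fun y => ?_))
    have hc := hquot x y
    set c0 := y * x * y⁻¹ * x⁻¹ with hc0
    have hp := hprod x a ha c0 hc r
    have hcx : c0 * x = y * x * y⁻¹ := by rw [hc0]; group
    rw [hcx, conj_pow, hx, hS] at hp
    simp only [mul_one, mul_inv_cancel] at hp
    have hdvd : orderOf c0 ∣ r := by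
      have h1 : orderOf c0 ∣ r * u := orderOf_dvd_of_pow_eq_one hp.symm
      obtain ⟨i, hi⟩ := hgC c0 hc
      have h2 : orderOf c0 ∣ r ^ N := by rw [← hi, ← hog]; exact orderOf_pow_dvd i
      obtain ⟨k, -, hk⟩ := (Nat.dvd_prime_pow hr).1 h2
      rw [hk] at h1 ⊢
      exact (Nat.Coprime.pow_left k hu.symm).dvd_of_dvd_mul_right h1
    have h1 : c0 ∈ Subgroup.zpowers z := hC1 c0 hc (orderOf_dvd_iff_pow_eq_one.1 hdvd)
    have h2 : x * y * x⁻¹ * y⁻¹ = c0⁻¹ := by rw [hc0]; group
    rw [h2]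
    exact (Subgroup.zpowers z).inv_mem h1
  have hout : ∃ x : Y, x ^ r = 1 ∧ x ∉ C := by
    by_contra hc
    push Not at hc
    refine hna fun x y => hCa x ?_ y ?_ <;>
      exact (Subgroup.closure_le C).2 hc (hgen ▸ Subgroup.mem_top _)
  have hr2 : r = 2 := by
    obtain ⟨x, hx, hxC⟩ := hout
    obtain ⟨a, ha⟩ := hexp x
    by_contra hne
    exact hbad x hx hxC a ha (Or.inl hne)
  refine ⟨hr2, ?_⟩
  subst hr2
  have hN2 : 2 ≤ N := by
    by_contra hc
    have hN' : N = 1 := by omega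
    have hCz : C = Subgroup.zpowers z := by
      refine (Subgroup.eq_of_le_of_card_ge hzC ?_).symm
      rw [hN, hN', Nat.card_zpowers, hz]
      norm_num
    apply hna
    intro x y
    have hx : x ∈ C := hself x fun c hc => by
      rw [hCz] at hc
      exact (hzz c hc x).symm
    rw [hCz] at hx
    exact hzz x hx y
  have h4 : 4 ∣ 2 ^ N := by
    obtain ⟨k, rfl⟩ := Nat.exists_eq_add_of_le hN2
    rw [pow_add]; norm_num
  -- exponents of involutions outside C
  have hinv3 : ∀ x : Y, x ^ 2 = 1 → x ∉ C → ∀ a : ℕ, x * g * x⁻¹ = g ^ a → a % 4 = 3 := by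
    intro x hx hxC a ha
    have h1 := hiter x a ha 2
    rw [hx] at h1
    have h2 : g ^ (1 : ℕ) = g ^ (a ^ 2) := by simpa using h1
    rw [pow_eq_pow_iff_modEq, hog] at h2
    have h3 : a ^ 2 % 4 = 1 := ((h2.of_dvd h4).symm : _)
    have h4' : ¬ a % 4 = 1 := fun hc => hbad x hx hxC a ha (Or.inr hc)
    rw [Nat.pow_mod] at h3
    have : a % 4 < 4 := Nat.mod_lt _ (by norm_num)
    interval_cases hh : a % 4 <;> omega
  -- two involutions outside C agree modulo C
  have hcoset : ∀ x x' : Y, x ^ 2 = 1 → x ∉ C → x' ^ 2 = 1 → x' ∉ C → x * x' ∈ C := by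
    intro x x' hx hxC hx' hxC'
    obtain ⟨a, ha⟩ := hexp x
    obtain ⟨a', ha'⟩ := hexp x'
    have h3 := hinv3 x hx hxC a ha
    have h3' := hinv3 x' hx' hxC' a' ha'
    set w := x * x' with hw
    have hw1 : w * g * w⁻¹ = g ^ (a * a') := by
      rw [hw, show x * x' * g * (x * x')⁻¹ = x * (x' * g * x'⁻¹) * x⁻¹ by group, ha', ← conj_pow,
        ha, ← pow_mul]
    by_contra hwC
    obtain ⟨b, hb⟩ := hexp w⁻¹
    have hxi : x⁻¹ = x := inv_eq_of_mul_eq_one_right (by rw [← sq, hx])
    have hxi' : x'⁻¹ = x' := inv_eq_of_mul_eq_one_right (by rw [← sq, hx'])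
    have hb4 : b % 4 = 1 := by
      have hb' : w⁻¹ * g * w⁻¹⁻¹ = g ^ (a' * a) := by
        rw [hw, mul_inv_rev, hxi, hxi', show x' * x * g * (x' * x)⁻¹ = x' * (x * g * x⁻¹) * x'⁻¹
          by group, ha, ← conj_pow, ha', ← pow_mul]
      rw [hb, pow_eq_pow_iff_modEq, hog] at hb'
      have := (hb'.of_dvd h4 : b % 4 = (a' * a) % 4)
      rw [this, Nat.mul_mod, h3, h3']
    have hw2 : w ^ 2 ∈ C := by
      have h1 : w ^ 2 = x * x' * x⁻¹ * x'⁻¹ := by rw [hxi, hxi', hw, sq]; group
      rw [h1]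
      exact hquot x' x
    obtain ⟨i, hi⟩ := hgC _ hw2
    have hieven : 2 ∣ i := by
      by_contra hodd
      have hcop : Nat.Coprime i (orderOf g) := by
        rw [hog]
        exact Nat.Coprime.pow_right N
          (Nat.coprime_comm.1 ((Nat.prime_two.coprime_iff_not_dvd).2 hodd))
      obtain ⟨j, hj⟩ := exists_pow_eq_self_of_coprime hcop
      apply hwC
      apply hself
      intro c hc
      obtain ⟨k, rfl⟩ := hgC c hc
      rw [← hj, hi]
      exact (((Commute.refl w).pow_right 2).pow_right j).pow_right k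
    obtain ⟨i', rfl⟩ := hieven
    obtain ⟨b', hb''⟩ : ∃ b', b = 2 * b' + 1 := ⟨b / 2, by omega⟩
    have hcop : Nat.Coprime (b' + 1) (2 ^ N) := Nat.Coprime.pow_right N
      (Nat.coprime_comm.1 ((Nat.prime_two.coprime_iff_not_dvd).2 (by omega)))
    obtain ⟨j, hj⟩ : ∃ j : ℕ, 2 ^ N ∣ i' + j * (b' + 1) := by
      have hu := (ZMod.unitOfCoprime (b' + 1) hcop)
      refine ⟨((-(i' : ZMod (2 ^ N))) * ((ZMod.unitOfCoprime (b' + 1) hcop)⁻¹ : (ZMod (2 ^ N))ˣ)).val, ?_⟩
      apply (ZMod.natCast_eq_zero_iff _ _).1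
      push_cast
      rw [ZMod.natCast_zmod_val, mul_assoc]
      have h1 : (((ZMod.unitOfCoprime (b' + 1) hcop)⁻¹ : (ZMod (2 ^ N))ˣ) : ZMod (2 ^ N))
          * ((b' : ZMod (2 ^ N)) + 1) = 1 := by
        have h2 := (ZMod.unitOfCoprime (b' + 1) hcop).inv_mul
        rw [ZMod.coe_unitOfCoprime] at h2
        push_cast at h2
        exact h2
      rw [h1, mul_one, add_neg_cancel]
    -- `w g^j` is an involution outside C with exponent ≡ 1 mod 4
    have hx2 : (w * g ^ j) ^ 2 = 1 := by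
      have h1 : (w * g ^ j) ^ 2 = w ^ 2 * (w⁻¹ * g ^ j * w⁻¹⁻¹) * g ^ j := by rw [sq, sq]; group
      rw [h1, ← conj_pow, hb, ← hi, ← pow_mul, ← pow_add, ← pow_add]
      apply orderOf_dvd_iff_pow_eq_one.1
      rw [hog, show 2 * i' + b * j + j = 2 * (i' + j * (b' + 1)) by rw [hb'']; ring]
      exact Dvd.dvd.mul_left hj 2
    refine hbad (w * g ^ j) hx2 ?_ (a * a') ?_ (Or.inr ?_)
    · intro hc
      exact hwC (by simpa using C.mul_mem hc (C.inv_mem (C.pow_mem hg j)))
    · rw [← hw1]; group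
    · show a * a' % 4 = 1
      rw [Nat.mul_mod, h3, h3']
  intro h hh hhz
  have hhC : h ∉ C := fun hc => hhz (hC1 h hc hh)
  obtain ⟨a, ha⟩ := hexp h
  have h3 := hinv3 h hh hhC a ha
  refine ⟨?_, ?_⟩
  swap
  · obtain ⟨M, rfl⟩ := Nat.exists_eq_add_of_le hN2
    refine ⟨g ^ 2 ^ M, ?_⟩
    obtain ⟨t, ht⟩ : ∃ t, a - 1 = 2 * t := ⟨(a - 1) / 2, by omega⟩
    have hti : g ^ 2 ^ M * h * (g ^ 2 ^ M)⁻¹ = h * g ^ (2 ^ (M + 1) * t) := by
      have hhi : h⁻¹ = h := inv_eq_of_mul_eq_one_right (by rw [← sq, hh])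
      have h1 : h⁻¹ * g ^ 2 ^ M * h = g ^ (2 ^ M * a) := by
        have := hconj h a ha _ (C.pow_mem hg (2 ^ M))
        rw [← pow_mul] at this
        rwa [hhi] at this ⊢
      have h2 : g ^ 2 ^ M * h * (g ^ 2 ^ M)⁻¹ = h * (h⁻¹ * g ^ 2 ^ M * h) * (g ^ 2 ^ M)⁻¹ := by group
      rw [h2, h1, mul_assoc]
      congr 1
      rw [mul_inv_eq_iff_eq_mul, ← pow_add]
      congr 1
      rw [show a = 2 * t + 1 by omega, pow_succ]; ring
    rw [hti]
    congr 1
    set w := g ^ (2 ^ (M + 1) * t)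
    have hw2 : w ^ 2 = 1 := by
      rw [← pow_mul]
      apply orderOf_dvd_iff_pow_eq_one.1
      exact hog ▸ ⟨t, by rw [pow_add, pow_succ]; ring⟩
    have hw1 : w ≠ 1 := by
      intro hc
      have h5 := orderOf_dvd_of_pow_eq_one hc
      rw [hog, show 2 + M = (M + 1) + 1 by omega, pow_succ (2:ℕ) (M + 1)] at h5
      have := Nat.dvd_of_mul_dvd_mul_left (Nat.two_pow_pos (M + 1)) h5
      omega
    obtain ⟨k, hk⟩ := hC1 w (C.pow_mem hg _) hw2
    rw [← hk] at hw1 ⊢
    simp only at hw1 ⊢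
    rw [← zpow_mod_orderOf, hz] at hw1 ⊢
    rcases Int.emod_two_eq_zero_or_one k with h6 | h6
    · exact absurd (by rw [Nat.cast_two, h6, zpow_zero]) hw1
    · rw [Nat.cast_two, h6, zpow_one]
  -- the involutions lie in `hC`
  have hsub : {x : Y | x ^ 2 = 1 ∧ x ∉ Subgroup.zpowers z} ⊆ (fun c => h * c) '' (C : Set Y) := by
    rintro x ⟨hx, hxz⟩
    refine ⟨h * x, hcoset h x hh hhC hx (fun hc => hxz (hC1 x hc hx)), ?_⟩
    show h * (h * x) = x
    rw [← mul_assoc, ← sq, hh, one_mul]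
  refine (Set.ncard_le_ncard hsub).trans ((Set.ncard_image_le).trans ?_)
  have hfix : ∀ c ∈ C, c * h * c⁻¹ = h → c ∈ Subgroup.zpowers z := by
    intro c hc hch
    apply hC1 c hc
    obtain ⟨k, rfl⟩ := hgC c hc
    have h1 := hconj h a ha _ (C.pow_mem hg k)
    have h2 : h * g ^ k * h⁻¹ = g ^ k := by
      have := mul_inv_eq_iff_eq_mul.1 hch
      rw [← this]; group
    rw [h2, ← pow_mul, pow_eq_pow_iff_modEq, hog] at h1
    rw [← pow_mul]
    apply orderOf_dvd_iff_pow_eq_one.1
    rw [hog]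
    have ha0 : 1 ≤ a := by omega
    have h5 : 2 ^ N ∣ k * (a - 1) := by
      rw [Nat.mul_sub, mul_one]
      exact (Nat.modEq_iff_dvd' (Nat.le_mul_of_pos_right k (by omega))).1 h1
    obtain ⟨t, ht⟩ : ∃ t, a - 1 = 2 * t := ⟨(a - 1) / 2, by omega⟩
    rw [ht, ← mul_assoc] at h5
    exact (Nat.Coprime.pow_left N
      ((Nat.prime_two.coprime_iff_not_dvd).2 (by omega))).dvd_of_dvd_mul_right h5
  have : Fintype Y := Fintype.ofFinite Y
  rw [Set.ncard_eq_toFinset_card', Set.ncard_eq_toFinset_card']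
  refine Finset.card_le_mul_card_image_of_maps_to (f := fun c => c * h * c⁻¹) ?_ 2 ?_
  · intro c _
    exact Set.mem_toFinset.2 ⟨c, rfl⟩
  · intro b _
    set F := ((C : Set Y).toFinset).filter fun c => c * h * c⁻¹ = b
    by_cases hne : F.Nonempty
    · obtain ⟨c0, hc0⟩ := hne
      simp only [F, Finset.mem_filter, Set.mem_toFinset, SetLike.mem_coe] at hc0
      calc F.card ≤ ((Subgroup.zpowers z : Set Y).toFinset).card := by
            refine Finset.card_le_card_of_injOn (fun c => c0⁻¹ * c) ?_ ?_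
            · intro c hc
              simp only [Finset.mem_coe, F, Finset.mem_filter, Set.mem_toFinset,
                SetLike.mem_coe] at hc
              refine Finset.mem_coe.2 (Set.mem_toFinset.2 (hfix _
                (C.mul_mem (C.inv_mem hc0.1) hc.1) ?_))
              calc c0⁻¹ * c * h * (c0⁻¹ * c)⁻¹ = c0⁻¹ * (c * h * c⁻¹) * c0 := by group
                _ = h := by rw [hc.2, ← hc0.2]; group
            · intro u _ v _ huv
              simpa using huv
        _ = 2 := by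
            rw [← Set.ncard_eq_toFinset_card']
            exact (Nat.card_zpowers z).trans hz
    · rw [Finset.not_nonempty_iff_eq_empty.1 hne]; simp

end Derange5732
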