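import Cfsg.Agent.Derange5732.Linear.Minimal
import Cfsg.Agent.Derange5732.Linear.Independence
import Cfsg.Agent.Derange5732.Linear.NoExtraspecial

/-!
# The non-abelian case
-/

set_option autoImplicit false

namespace Derange5732

open scoped Classical

variable {G : Type*} [Group G] [Finite G] {D A S : Subgroup G} {p r : ℕ} {Y : Subgroup G}

/-- The data of the non-abelian case. -/
structure Central (D A S : Subgroup G) (p r : ℕ) (Y : Subgroup G) (z : G) : Prop where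
  mb : MinBad D A S p r Y
  nonab : ¬ ∀ x ∈ Y, ∀ y ∈ Y, x * y = y * x
  zY : z ∈ Y
  zc : ∀ y ∈ Y, z * y = y * z
  zord : orderOf z = r
  zfpf : ∀ w ∈ Subgroup.zpowers z, w ≠ 1 → ∀ s ∈ S, w * s = s * w → s = 1
  omega : ∀ x ∈ Y, (∀ y ∈ Y, x * y = y * x) → x ^ r = 1 → x ∈ Subgroup.zpowers z
  central_fpf : ∀ x ∈ Y, (∀ y ∈ Y, x * y = y * x) → ¬ Bad S x

theorem MinBad.exists_central (m : MinBad D A S p r Y)
    (hna : ¬ ∀ x ∈ Y, ∀ y ∈ Y, x * y = y * x) : ∃ z, Central D A S p r Y z := by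
  have := Fact.mk m.rprime
  set Z := Y ⊓ Subgroup.centralizer (Y : Set G)
  have hZc : ∀ x ∈ Z, ∀ y ∈ Y, x * y = y * x := fun x hx y hy =>
    (Subgroup.mem_centralizer_iff.1 hx.2 y hy).symm
  have hZne : Z ≠ Y := fun he => hna fun x hx y hy => hZc x (he.symm ▸ hx) y hy
  have hZn : A ⊓ Subgroup.normalizer (Y : Set G) ≤ Subgroup.normalizer (Z : Set G) := by
    rw [Subgroup.le_normalizer_iff]
    intro g hg x hx
    refine ⟨m.conj_mem hg hx.1, Subgroup.mem_centralizer_iff.2 fun y hy => ?_⟩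
    have h1 : g⁻¹ * y * g ∈ Y := by simpa using m.conj_mem (inv_mem hg) hy
    calc y * (g * x * g⁻¹) = g * (g⁻¹ * y * g * x) * g⁻¹ := by group
      _ = g * x * g⁻¹ * y := by rw [← hZc x hx _ h1]; group
  have hfpf : ∀ x ∈ Z, ¬ Bad S x := m.proper Z inf_le_left hZn hZne
  have hZnt : Z ≠ ⊥ := by
    intro hZ
    have hY : Nontrivial Y := by
      by_contra hn
      rw [not_nontrivial_iff_subsingleton] at hn
      exact hna fun x hx y hy => by
        have : (⟨x, hx⟩ : Y) = ⟨y, hy⟩ := Subsingleton.elim _ _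
        rw [Subtype.mk.injEq] at this
        rw [this]
    have hc := m.pgroup.center_nontrivial
    obtain ⟨w, hw⟩ := exists_ne (1 : Subgroup.center Y)
    have hwc : ∀ y : Y, y * w.1 = w.1 * y := Subgroup.mem_center_iff.1 w.2
    have : (w.1 : G) ∈ Z := ⟨w.1.2, Subgroup.mem_centralizer_iff.2 fun y hy =>
      congrArg Subtype.val (hwc ⟨y, hy⟩)⟩
    rw [hZ, Subgroup.mem_bot, OneMemClass.coe_eq_one, OneMemClass.coe_eq_one] at this
    exact hw this
  obtain ⟨i, hi⟩ := (m.pgroup.to_le (inf_le_left : Z ≤ Y)).exists_card_eq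
  have hi0 : i ≠ 0 := fun h0 => hZnt (Subgroup.card_eq_one.1 (by rw [hi, h0, pow_zero]))
  obtain ⟨z, hz⟩ := exists_prime_orderOf_dvd_card' (G := Z) r (hi ▸ dvd_pow_self r hi0)
  have hzo : orderOf (z : G) = r := by rw [Subgroup.orderOf_coe]; exact hz
  have hzf : ∀ w ∈ Subgroup.zpowers (z : G), w ≠ 1 → ∀ s ∈ S, w * s = s * w → s = 1 := by
    intro w hw hw1 s hs hws
    by_contra hs1
    exact hfpf w ((Subgroup.zpowers_le.2 z.2) hw) ⟨hw1, s, hs, hs1, hws⟩
  refine ⟨z, m, hna, z.2.1, hZc z z.2, hzo, hzf, ?_,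
    fun x hx hxc => hfpf x ⟨hx, Subgroup.mem_centralizer_iff.2 fun y hy => (hxc y hy).symm⟩⟩
  intro x hx hxc hxr
  have hxZ : x ∈ Z := ⟨hx, Subgroup.mem_centralizer_iff.2 fun y hy => (hxc y hy).symm⟩
  have hz1 : (z : G) ≠ 1 := fun h1 => by
    rw [h1, orderOf_one] at hzo; exact m.rprime.one_lt.ne hzo
  have hzr : (z : G) ^ r = 1 := hzo ▸ pow_orderOf_eq_one _
  obtain ⟨j, u, hu, hu1, hfix⟩ := m.lin.exists_fixed_on_line m.ne (m.leA hx) (m.leA z.2.1)
    (hxc z z.2.1) hxr hzr le_rfl m.S_ne_bot (fun u hu => m.lin.conj_mem (m.leA hx) hu)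
    (fun u hu => m.lin.conj_mem (m.leA z.2.1) hu)
    (fun u hu he => hzf z (Subgroup.mem_zpowers _) hz1 u hu he)
  have h1 : x * (z : G) ^ j = 1 := by
    by_contra hne
    exact hfpf _ (Z.mul_mem hxZ (Z.pow_mem z.2 j)) ⟨hne, u, hu, hu1, hfix⟩
  rw [eq_inv_of_mul_eq_one_left h1]
  exact Subgroup.inv_mem _ (Subgroup.pow_mem _ (Subgroup.mem_zpowers _) j)

namespace Central

variable {z : G}

omit [Finite G] in
theorem zpowers_le (c : Central D A S p r Y z) : Subgroup.zpowers z ≤ Y :=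
  Subgroup.zpowers_le.2 c.zY

omit [Finite G] in
theorem commute_zpowers (c : Central D A S p r Y z) {w : G} (hw : w ∈ Subgroup.zpowers z)
    {y : G} (hy : y ∈ Y) : Commute w y := by
  obtain ⟨k, rfl⟩ := hw
  exact (show Commute z y from c.zc y hy).zpow_left k

omit [Finite G] in
theorem z_ne_one (c : Central D A S p r Y z) : z ≠ 1 := fun h => by
  have := c.zord
  rw [h, orderOf_one] at this
  exact c.mb.rprime.one_lt.ne this

omit [Finite G] in
theorem z_pow (c : Central D A S p r Y z) : z ^ r = 1 := c.zord ▸ pow_orderOf_eq_one z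

omit [Finite G] in
theorem cS_z (c : Central D A S p r Y z) : cS S (Subgroup.zpowers z) = ⊥ := by
  rw [eq_bot_iff]
  intro s hs
  obtain ⟨hsS, hzs⟩ := cS_zpowers.1 hs
  exact Subgroup.mem_bot.2 (c.zfpf z (Subgroup.mem_zpowers z) c.z_ne_one s hsS hzs)

omit [Finite G] in
theorem two_le_card (c : Central D A S p r Y z) [Finite S] : 1 < Nat.card S := by
  rw [Finite.one_lt_card_iff_nontrivial, Subgroup.nontrivial_iff_ne_bot]
  exact c.mb.S_ne_bot

/-- An element of order dividing `r` has a bad translate by `⟨z⟩`. -/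
theorem exists_bad_translate (c : Central D A S p r Y z) {x : G} (hx : x ∈ Y) (hxr : x ^ r = 1)
    (hxz : x ∉ Subgroup.zpowers z) : ∃ j : ℕ, Bad S (x * z ^ j) := by
  have := Fact.mk c.mb.rprime
  obtain ⟨j, u, hu, hu1, hfix⟩ := c.mb.lin.exists_fixed_on_line c.mb.ne (c.mb.leA hx)
    (c.mb.leA c.zY) (c.zc x hx).symm hxr c.z_pow le_rfl c.mb.S_ne_bot
    (fun u hu => c.mb.lin.conj_mem (c.mb.leA hx) hu)
    (fun u hu => c.mb.lin.conj_mem (c.mb.leA c.zY) hu)
    (fun u hu he => c.zfpf z (Subgroup.mem_zpowers z) c.z_ne_one u hu he)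
  refine ⟨j, fun h1 => hxz ?_, u, hu, hu1, hfix⟩
  rw [eq_inv_of_mul_eq_one_left h1]
  exact Subgroup.inv_mem _ (Subgroup.pow_mem _ (Subgroup.mem_zpowers _) j)

/-- Conjugation of a non-central element reaches all translates by `⟨z⟩`. -/
theorem exists_conj_translate (c : Central D A S p r Y z)
    (hcl : ∀ x ∈ Y, ∀ y ∈ Y, x * y * x⁻¹ * y⁻¹ ∈ Subgroup.zpowers z)
    {x : G} (hx : x ∈ Y) (hxnc : ¬ ∀ y ∈ Y, x * y = y * x) (i : ℕ) :
    ∃ y ∈ Y, y * x * y⁻¹ = x * z ^ i := by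
  push Not at hxnc
  obtain ⟨y, hy, hne⟩ := hxnc
  set w := y * x * y⁻¹ * x⁻¹ with hw
  have hwz : w ∈ Subgroup.zpowers z := hcl y hy x hx
  have hw1 : w ≠ 1 := fun h1 => hne (by rw [hw, mul_inv_eq_one, mul_inv_eq_iff_eq_mul] at h1; exact h1.symm)
  have hconj : y * x * y⁻¹ = x * w := by
    rw [← (c.commute_zpowers hwz hx).eq, hw]; group
  obtain ⟨k, -, hk⟩ := exists_pow_eq_of_mem_zpowers hwz
  have hzw : z ∈ Subgroup.zpowers w :=
    mem_of_pow_mem_of_prime c.mb.rprime c.zord (k := k) (fun hd => hw1 (by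
      rw [← hk]; exact orderOf_dvd_iff_pow_eq_one.1 (c.zord ▸ hd)))
      (by rw [hk]; exact Subgroup.mem_zpowers w)
  obtain ⟨t, -, ht⟩ := exists_pow_eq_of_mem_zpowers hzw
  refine ⟨y ^ (t * i), Y.pow_mem hy _, ?_⟩
  rw [conj_pow_of_central hconj (c.commute_zpowers hwz hy).symm, pow_mul, ht]

/-- The class two case: what is known. -/
structure ClassTwo (D A S : Subgroup G) (p r : ℕ) (Y : Subgroup G) (z : G) : Prop where
  cen : Central D A S p r Y z
  comm_mem : ∀ x ∈ Y, ∀ y ∈ Y, x * y * x⁻¹ * y⁻¹ ∈ Subgroup.zpowers z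
  card_le : Nat.card Y ≤
    Nat.log 2 (Nat.card S) * Nat.log 2 (Nat.card S) * (if r = 2 then 4 else r)

/-- If there is a big element of order `r` central modulo `⟨z⟩`, then `Y` has class two. -/
theorem classTwo_of_exists (c : Central D A S p r Y z)
    (hex : ∃ x ∈ Y, x ^ r = 1 ∧ x ∉ Subgroup.zpowers z ∧
      ∀ y ∈ Y, x * y * x⁻¹ * y⁻¹ ∈ Subgroup.zpowers z) :
    ClassTwo D A S p r Y z := by
  have := Fact.mk c.mb.rprime
  obtain ⟨e, he, hre, hrc⟩ : ∃ e, e = (if r = 2 then 4 else r) ∧ r ∣ e ∧ r ∣ e.choose 2 := by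
    refine ⟨_, rfl, ?_⟩
    split_ifs with h2
    · subst h2; exact ⟨⟨2, rfl⟩, ⟨3, rfl⟩⟩
    · exact ⟨dvd_rfl, c.mb.rprime.dvd_choose_self two_ne_zero
        (lt_of_le_of_ne c.mb.rprime.two_le (Ne.symm h2))⟩
  have hcen : ∀ w ∈ Subgroup.zpowers z, ∀ y ∈ Y, Commute w y :=
    fun w hw y hy => c.commute_zpowers hw hy
  let X : Subgroup G :=
    { carrier := {x | x ∈ Y ∧ (∀ y ∈ Y, x * y * x⁻¹ * y⁻¹ ∈ Subgroup.zpowers z) ∧ x ^ e = 1}
      one_mem' := ⟨Y.one_mem, fun y _ => by simp, one_pow e⟩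
      mul_mem' := by
        rintro a b ⟨ha, hac, hae⟩ ⟨hb, hbc, hbe⟩
        refine ⟨Y.mul_mem ha hb, fun y hy => ?_, ?_⟩
        · have h1 : a * b * y * (a * b)⁻¹ * y⁻¹
              = (b * y * b⁻¹ * y⁻¹) * (a * y * a⁻¹ * y⁻¹) := by
            set w := b * y * b⁻¹ * y⁻¹ with hw
            calc a * b * y * (a * b)⁻¹ * y⁻¹ = a * w * (y * a⁻¹ * y⁻¹) := by rw [hw]; group
              _ = w * a * (y * a⁻¹ * y⁻¹) := by rw [(hcen w (hbc y hy) a ha).eq]
              _ = _ := by group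
          rw [h1]
          exact Subgroup.mul_mem _ (hbc y hy) (hac y hy)
        · set w := b * a * b⁻¹ * a⁻¹ with hw
          have hwz : w ∈ Subgroup.zpowers z := hbc a ha
          rw [pow_mul_pow_class_two (hcen w hwz a ha) (hcen w hwz b hb) (by rw [hw]; group) e,
            hae, hbe, one_mul, one_mul]
          obtain ⟨k, hk⟩ := hwz
          obtain ⟨t, ht⟩ := hrc
          rw [ht, pow_mul, ← hk]
          have : (z ^ k) ^ r = 1 := by rw [← zpow_natCast, ← zpow_mul, mul_comm, zpow_mul,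
            zpow_natCast, c.z_pow, one_zpow]
          simp only at this ⊢
          rw [this, one_pow]
      inv_mem' := by
        rintro a ⟨ha, hac, hae⟩
        refine ⟨Y.inv_mem ha, fun y hy => ?_, by rw [inv_pow, hae, inv_one]⟩
        set w := a * y * a⁻¹ * y⁻¹ with hw
        have h1 : a⁻¹ * y * a⁻¹⁻¹ * y⁻¹ = a⁻¹ * w⁻¹ * a := by rw [hw]; group
        have h2 : a⁻¹ * w⁻¹ * a = w⁻¹ := by
          rw [mul_assoc, (hcen _ (inv_mem (hac y hy)) a ha).eq, inv_mul_cancel_left]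
        rw [h1, h2]
        exact inv_mem (hac y hy) }
  have hXn : A ⊓ Subgroup.normalizer (Y : Set G) ≤ Subgroup.normalizer (X : Set G) := by
    rw [Subgroup.le_normalizer_iff]
    rintro g hg x ⟨hx, hxc, hxe⟩
    have hz' : ∀ w ∈ Subgroup.zpowers z, g * w * g⁻¹ ∈ Subgroup.zpowers z := by
      intro w hw
      obtain ⟨k, rfl⟩ := hw
      have h1 : g * z * g⁻¹ ∈ Subgroup.zpowers z := by
        refine c.omega _ (c.mb.conj_mem hg c.zY) (fun y hy => ?_) (by rw [conj_pow, c.z_pow]; group)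
        have h2 : g⁻¹ * y * g ∈ Y := by simpa using c.mb.conj_mem (inv_mem hg) hy
        calc g * z * g⁻¹ * y = g * (z * (g⁻¹ * y * g)) * g⁻¹ := by group
          _ = y * (g * z * g⁻¹) := by rw [c.zc _ h2]; group
      show g * z ^ k * g⁻¹ ∈ Subgroup.zpowers z
      rw [← conj_zpow]
      exact Subgroup.zpow_mem _ h1 k
    refine ⟨c.mb.conj_mem hg hx, fun y hy => ?_, by rw [conj_pow, hxe]; group⟩
    have h2 : g⁻¹ * y * g ∈ Y := by simpa using c.mb.conj_mem (inv_mem hg) hy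
    have h3 := hz' _ (hxc _ h2)
    simpa [mul_assoc] using h3
  obtain ⟨x, hx, hxr, hxz, hxc⟩ := hex
  obtain ⟨j, hj⟩ := c.exists_bad_translate hx hxr hxz
  have hxe : x ^ e = 1 := orderOf_dvd_iff_pow_eq_one.1 ((orderOf_dvd_of_pow_eq_one hxr).trans hre)
  have hzX : z ∈ X := ⟨c.zY, fun y hy => by
    rw [c.zc y hy]; simp, orderOf_dvd_iff_pow_eq_one.1 (c.zord ▸ hre)⟩
  have hXY : X = Y := by
    by_contra hne
    exact c.mb.proper X (fun w hw => hw.1) hXn hne _
      (X.mul_mem ⟨hx, hxc, hxe⟩ (X.pow_mem hzX j)) hj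
  have hcl : ∀ a ∈ Y, ∀ b ∈ Y, a * b * a⁻¹ * b⁻¹ ∈ Subgroup.zpowers z := fun a ha b hb =>
    ((hXY.ge ha : a ∈ X)).2.1 b hb
  refine ⟨c, hcl, ?_⟩
  -- the centre
  obtain ⟨a, ha⟩ : ∃ a, Nat.card S = p ^ a := by
    have hp := Fact.mk c.mb.lin.pp
    have : IsPGroup p S := fun s => ⟨1, Subtype.ext (by simpa using c.mb.lin.exp s s.2)⟩
    exact this.exists_card_eq
  have h1 := c.mb.lin.card_le_sq_mul_center c.mb.leA c.zY c.zc hcl c.zfpf ha c.two_le_card
  refine h1.trans ?_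
  have ha' : a ≤ Nat.log 2 (Nat.card S) := Nat.le_log_of_pow_le one_lt_two
    (ha ▸ Nat.pow_le_pow_left c.mb.lin.pp.two_le a)
  refine Nat.mul_le_mul (Nat.mul_le_mul ha' ha') ?_
  set Z := Y ⊓ Subgroup.centralizer (Y : Set G)
  have hZc : ∀ w ∈ Z, ∀ y ∈ Y, w * y = y * w := fun w hw y hy =>
    (Subgroup.mem_centralizer_iff.1 hw.2 y hy).symm
  have hZe : ∀ w ∈ Z, w ^ e = 1 := fun w hw => ((hXY.ge hw.1 : w ∈ X)).2.2
  split_ifs with h2
  · subst h2
    rw [if_pos rfl] at he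
    subst he
    let f : Z →* Subgroup.zpowers z :=
      { toFun := fun w => ⟨w.1 ^ 2, c.omega _ (Y.pow_mem w.2.1 2)
            (fun y hy => ((show Commute w.1 y from hZc w.1 w.2 y hy).pow_left 2).eq)
            (by rw [← pow_mul]; exact hZe w.1 w.2)⟩
        map_one' := Subtype.ext (one_pow 2)
        map_mul' := fun u v => Subtype.ext
          ((show Commute u.1 v.1 from hZc u.1 u.2 v.1 v.2.1).mul_pow 2) }
    rw [Subgroup.card_eq_card_quotient_mul_card_subgroup f.ker]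
    have h4 : Nat.card (Subgroup.zpowers z) = 2 := (Nat.card_zpowers z).trans c.zord
    refine le_trans (Nat.mul_le_mul ?_ ?_) (le_of_eq (show 2 * 2 = 4 by rfl))
    · rw [← h4]
      exact Nat.card_le_card_of_injective _ (QuotientGroup.kerLift_injective f)
    · rw [← h4]
      refine Nat.card_le_card_of_injective (fun w => ⟨w.1.1, c.omega _ w.1.2.1
        (hZc _ w.1.2) (congrArg Subtype.val (MonoidHom.mem_ker.1 w.2))⟩) ?_
      intro u v huv
      exact Subtype.ext (Subtype.ext (congrArg Subtype.val huv :))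
  · rw [if_neg h2] at he
    subst he
    calc Nat.card Z ≤ Nat.card (Subgroup.zpowers z) := Nat.card_le_card_of_injective
          (fun w => (⟨w.1, c.omega _ w.2.1 (hZc w.1 w.2) (hZe w.1 w.2)⟩ : Subgroup.zpowers z))
          (fun u v huv => Subtype.ext (congrArg Subtype.val huv :))
      _ = e := (Nat.card_zpowers z).trans c.zord

end Central

end Derange5732
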