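import Cfsg.Agent.Derange5732.Linear.Abelian
import Cfsg.Agent.Derange5732.Linear.NonAbelian

/-!
# The linear case: the bound
-/

set_option autoImplicit false

namespace Derange5732

open scoped Classical

variable {G : Type*} [Group G]

/-- Conjugation on an invariant set. -/
@[reducible] def conjOn (N : Subgroup G) (T : Set G)
    (h : ∀ g ∈ N, ∀ x ∈ T, g * x * g⁻¹ ∈ T) : MulAction N T where
  smul g x := ⟨g.1 * x.1 * g.1⁻¹, h g.1 g.2 x.1 x.2⟩
  one_smul x := Subtype.ext (by show (1 : G) * x.1 * 1⁻¹ = x.1; simp)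
  mul_smul a b x := Subtype.ext (by
    show (a.1 * b.1) * x.1 * (a.1 * b.1)⁻¹ = a.1 * (b.1 * x.1 * b.1⁻¹) * a.1⁻¹
    group)

/-- Conjugation on an invariant set of pairs. -/
@[reducible] def conjOn2 (N : Subgroup G) (T : Set (G × G))
    (h : ∀ g ∈ N, ∀ x ∈ T, (g * x.1 * g⁻¹, g * x.2 * g⁻¹) ∈ T) : MulAction N T where
  smul g x := ⟨(g.1 * x.1.1 * g.1⁻¹, g.1 * x.1.2 * g.1⁻¹), h g.1 g.2 x.1 x.2⟩
  one_smul x := Subtype.ext (by
    show ((1 : G) * x.1.1 * 1⁻¹, (1 : G) * x.1.2 * 1⁻¹) = x.1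
    simp)
  mul_smul a b x := Subtype.ext (by
    show ((a.1 * b.1) * x.1.1 * (a.1 * b.1)⁻¹, (a.1 * b.1) * x.1.2 * (a.1 * b.1)⁻¹)
      = (a.1 * (b.1 * x.1.1 * b.1⁻¹) * a.1⁻¹, a.1 * (b.1 * x.1.2 * b.1⁻¹) * a.1⁻¹)
    simp [mul_assoc])

variable [Finite G] {D A S : Subgroup G} {p r : ℕ} {Y : Subgroup G} {z : G}

theorem conj_mem_cS_zpowers {S : Subgroup G} {g h u : G} (hS : g * u * g⁻¹ ∈ S)
    (hgh : g * h * g⁻¹ = h) (hu : h * u = u * h) : g * u * g⁻¹ ∈ cS S (Subgroup.zpowers h) := by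
  refine cS_zpowers.2 ⟨hS, ?_⟩
  calc h * (g * u * g⁻¹) = g * h * g⁻¹ * (g * u * g⁻¹) := by rw [hgh]
    _ = g * (h * u) * g⁻¹ := by group
    _ = g * u * g⁻¹ * (g * h * g⁻¹) := by rw [hu]; group
    _ = g * u * g⁻¹ * h := by rw [hgh]

namespace Central

/-- `z` moves every non-trivial element of `S`. -/
theorem z_moves (c : Central D A S p r Y z) {u : G} (hu : u ∈ S) (hu1 : u ≠ 1) :
    z * u ≠ u * z := fun he => hu1 (c.zfpf z (Subgroup.mem_zpowers z) c.z_ne_one u hu he)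

/-- `z` gives orbits of length `r` of the stabiliser of any element of `Y`. -/
theorem r_le_stab_orbit (c : Central D A S p r Y z) {T : Set G} {N : Subgroup G}
    (hN : Y ≤ N) {u : G} (hu : u ∈ S) (hu1 : u ≠ 1) {fix : N → Prop}
    (hfix : ∀ g : N, g.1 ∈ Subgroup.zpowers z → fix g)
    (hT : T = {w : G | ∃ g : N, g.1 ∈ D ∧ fix g ∧ g.1 * u * g.1⁻¹ = w}) : r ≤ T.ncard := by
  refine prime_le_ncard_conj c.mb.rprime c.z_pow (c.z_moves hu hu1) fun i => ?_
  rw [hT]
  exact ⟨⟨z ^ i, hN (Y.pow_mem c.zY i)⟩, c.mb.leD (Y.pow_mem c.zY i),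
    hfix _ (Subgroup.pow_mem _ (Subgroup.mem_zpowers z) i), rfl⟩

/-- The squared bound from `m ≤ u - 1` and `u² ≤ n`. -/
theorem sq_le_of_conj (c : Central D A S p 2 Y z) {h : G} (hh : h ∈ Y) (hh2 : h ^ 2 = 1)
    (hbad : Bad S h) (hy : ∃ y ∈ Y, y * h * y⁻¹ = h * z)
    (hm : D.index ≤ Nat.card (cS S (Subgroup.zpowers h)) - 1) :
    (D.index + 1) ^ 2 ≤ Nat.card S := by
  obtain ⟨y, hy, hyh⟩ := hy
  have h1 := c.mb.pow_card_cS_le hh c.zY (c.zc h hh).symm c.z_pow c.z_ne_one c.cS_z (fun i => by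
    rcases Nat.even_or_odd i with ⟨j, rfl⟩ | ⟨j, rfl⟩
    · exact ⟨1, A.one_mem, by rw [← two_mul, pow_mul, c.z_pow]; simp⟩
    · exact ⟨y, c.mb.leA hy, by rw [pow_succ, pow_mul, c.z_pow, one_pow, one_mul, hyh]⟩)
  have : 0 < Nat.card (cS S (Subgroup.zpowers h)) := Nat.card_pos
  exact le_trans (Nat.pow_le_pow_left (by omega) 2) h1

end Central

namespace Central.ClassTwo

theorem exists_bad (t : ClassTwo D A S p r Y z) :
    ∃ h ∈ Y, h ^ r = 1 ∧ Bad S h ∧ ¬ ∀ y ∈ Y, h * y = y * h := by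
  obtain ⟨h, hh, hhr, hbad⟩ := t.cen.mb.bad
  exact ⟨h, hh, hhr, hbad, fun hc => t.cen.central_fpf h hh hc hbad⟩

theorem sq_le_odd (t : ClassTwo D A S p r Y z) (hr : r ≠ 2) (hn : 2 ^ 256 ≤ Nat.card S) :
    (D.index + 1) ^ 2 ≤ Nat.card S := by
  have c := t.cen
  have m := c.mb
  obtain ⟨h, hh, hhr, hbad, hnc⟩ := t.exists_bad
  obtain ⟨hh1, hU1⟩ := bad_iff.1 hbad
  set N := A ⊓ Subgroup.normalizer (Y : Set G)
  let _ : MulAction N (Y : Set G) := conjOn N Y fun g hg x hx => m.conj_mem hg hx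
  set U := cS S (Subgroup.zpowers h)
  have hb := m.lin.orbit_bound (M := N) inf_le_left m.cov (ι := (Y : Set G)) ⟨h, hh⟩
    (U := U) (cS_le _ _) hU1
    (fun g hg u hu => conj_mem_cS_zpowers (m.lin.conj_mem g.2.1 (cS_le _ _ hu))
      (congrArg Subtype.val hg) (cS_zpowers.1 hu).2)
    (c := r) (r' := r) ?_ ?_
  rotate_left
  · let f : Fin r → (Y : Set G) :=
      fun i => ⟨h * z ^ (i : ℕ), Y.mul_mem hh (Y.pow_mem c.zY _)⟩
    have hinj : Function.Injective f := fun i j hij => by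
      have h1 : z ^ (i : ℕ) = z ^ (j : ℕ) := mul_left_cancel (congrArg Subtype.val hij)
      exact Fin.ext (pow_injOn_Iio_orderOf (by rw [c.zord]; exact i.2)
        (by rw [c.zord]; exact j.2) h1)
    calc r = (Set.range f).ncard := by
          rw [← Nat.card_coe_set_eq, Nat.card_range_of_injective hinj, Nat.card_fin]
      _ ≤ _ := Set.ncard_le_ncard (by
          rintro _ ⟨i, rfl⟩
          obtain ⟨y, hy, hyh⟩ := c.exists_conj_translate t.comm_mem hh hnc i
          exact ⟨⟨y, m.le_N hy⟩, m.leD hy, Subtype.ext hyh⟩)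
  · intro u hu hu1
    refine c.r_le_stab_orbit m.le_N (cS_le _ _ hu) hu1
      (fix := fun g => g • (⟨h, hh⟩ : (Y : Set G)) = ⟨h, hh⟩) (fun g hg => Subtype.ext ?_) rfl
    show g.1 * h * g.1⁻¹ = h
    rw [(c.commute_zpowers hg hh).eq, mul_inv_cancel_right]
  have hu := m.pow_card_cS_le hh c.zY (c.zc h hh).symm c.z_pow c.z_ne_one c.cS_z fun i => by
    obtain ⟨y, hy, hyh⟩ := c.exists_conj_translate t.comm_mem hh hnc i
    exact ⟨y, m.leA hy, hyh⟩
  have hcard := t.card_le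
  rw [if_neg hr] at hcard
  rw [Nat.card_coe_set_eq] at hb
  have hYc : (Y : Set G).ncard = Nat.card Y := rfl
  rw [hYc] at hb
  set n := Nat.card S
  set L := Nat.log 2 n
  set u := Nat.card U
  have h16 := four_mul_le_of_log hn (L := L) rfl
  have hL1 : 1 ≤ L := le_trans (by norm_num) (Nat.le_log_of_pow_le one_lt_two hn)
  have h3 : 3 ≤ r := lt_of_le_of_ne m.rprime.two_le (Ne.symm hr)
  have hu1 : 1 ≤ u := Nat.card_pos
  have h4 : D.index * r ≤ L * L * (u - 1) := by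
    apply Nat.le_of_mul_le_mul_right _ m.rprime.pos
    calc D.index * r * r ≤ Nat.card Y * (u - 1) := hb
      _ ≤ L * L * r * (u - 1) := Nat.mul_le_mul_right _ hcard
      _ = L * L * (u - 1) * r := by ring
  have h5 : D.index + 1 ≤ L * L * u := by
    obtain ⟨w, hw⟩ : ∃ w, u = w + 1 := ⟨u - 1, by omega⟩
    rw [hw] at h4 ⊢
    simp at h4
    nlinarith
  have h6 : u ^ 3 ≤ n := le_trans (Nat.pow_le_pow_right hu1 h3) hu
  have h7 : ((L * L * u) ^ 2) ^ 3 ≤ n ^ 3 := by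
    calc ((L * L * u) ^ 2) ^ 3 = L ^ 12 * (u ^ 3) ^ 2 := by ring
      _ ≤ (16 * L ^ 16) * (u ^ 3) ^ 2 := by
          refine Nat.mul_le_mul_right _ ?_
          calc L ^ 12 ≤ L ^ 16 := Nat.pow_le_pow_right hL1 (by norm_num)
            _ ≤ 16 * L ^ 16 := Nat.le_mul_of_pos_left _ (by norm_num)
      _ ≤ n * n ^ 2 := Nat.mul_le_mul h16 (Nat.pow_le_pow_left h6 2)
      _ = n ^ 3 := by ring
  exact le_trans (Nat.pow_le_pow_left h5 2) ((Nat.pow_le_pow_iff_left (by norm_num)).1 h7)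

/-- Two commuting involutions, independent modulo `⟨z⟩`. -/
theorem sq_le_pair (t : ClassTwo D A S p 2 Y z) (hn : 2 ^ 256 ≤ Nat.card S) {h g : G}
    (hh : h ∈ Y) (hh2 : h ^ 2 = 1) (hhz : h ∉ Subgroup.zpowers z) (hg : g ∈ Y) (hg2 : g ^ 2 = 1)
    (hgz : g ∉ Subgroup.zpowers z) (hcomm : h * g = g * h)
    (hind : h * g ∉ Subgroup.zpowers z)
    (hfix : ∃ u ∈ S, u ≠ 1 ∧ h * u = u * h ∧ g * u = u * g) :
    (D.index + 1) ^ 2 ≤ Nat.card S := by
  have c := t.cen
  have m := c.mb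
  have := Fact.mk m.rprime
  have hnc : ∀ x ∈ Y, x ^ 2 = 1 → x ∉ Subgroup.zpowers z → ¬ ∀ y ∈ Y, x * y = y * x :=
    fun x hx hx2 hxz hc => hxz (c.omega x hx hc hx2)
  have hhg2 : (h * g) ^ 2 = 1 := by rw [(show Commute h g from hcomm).mul_pow, hh2, hg2, one_mul]
  have hzz : z * z = 1 := by rw [← sq, c.z_pow]
  -- conjugations realising all sign changes
  have htr : ∀ a b : Fin 2, ∃ y ∈ Y, y * h * y⁻¹ = h * z ^ (a : ℕ) ∧ y * g * y⁻¹ = g * z ^ (b : ℕ) := by
    have hzpow : ∀ y ∈ Y, ∀ x ∈ Y, ∃ a : Fin 2, y * x * y⁻¹ = x * z ^ (a : ℕ) := by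
      intro y hy x hx
      obtain ⟨i, hi, hi'⟩ := exists_pow_eq_of_mem_zpowers (t.comm_mem y hy x hx)
      rw [c.zord] at hi
      refine ⟨⟨i, hi⟩, ?_⟩
      have : y * x * y⁻¹ = (y * x * y⁻¹ * x⁻¹) * x := by group
      rw [this, ← hi', (c.commute_zpowers (Subgroup.pow_mem _ (Subgroup.mem_zpowers z) i) hx).eq]
    have hmul : ∀ {y y' x : G} {a b : ℕ}, y ∈ Y → x ∈ Y → y * x * y⁻¹ = x * z ^ a →
        y' * x * y'⁻¹ = x * z ^ b → (y * y') * x * (y * y')⁻¹ = x * z ^ (a + b) := by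
      intro y y' x a b hy hx h1 h2
      calc (y * y') * x * (y * y')⁻¹ = y * (y' * x * y'⁻¹) * y⁻¹ := by group
        _ = (y * x * y⁻¹) * (y * z ^ b * y⁻¹) := by rw [h2]; group
        _ = x * z ^ a * z ^ b := by
            rw [h1, ((show Commute z y from c.zc y hy).pow_left b).symm.eq, mul_inv_cancel_right]
        _ = x * z ^ (a + b) := by rw [mul_assoc, ← pow_add]
    have hz0 : z ^ (1 + 1) = z ^ 0 := by rw [pow_zero, show 1 + 1 = 2 from rfl, c.z_pow]
    -- an element moving exactly one of them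
    obtain ⟨y, hy, hyhg⟩ := c.exists_conj_translate t.comm_mem (Y.mul_mem hh hg)
      (hnc _ (Y.mul_mem hh hg) hhg2 hind) 1
    obtain ⟨a1, ha1⟩ := hzpow y hy h hh
    obtain ⟨b1, hb1⟩ := hzpow y hy g hg
    have hne : a1 ≠ b1 := by
      intro he
      have h1 : y * (h * g) * y⁻¹ = (y * h * y⁻¹) * (y * g * y⁻¹) := by group
      rw [hyhg, ha1, hb1, ← he, pow_one] at h1
      have h2 : h * z ^ (a1 : ℕ) * (g * z ^ (a1 : ℕ)) = h * g * (z ^ (a1 : ℕ) * z ^ (a1 : ℕ)) := by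
        have h3 := ((show Commute z g from c.zc g hg).pow_left (a1 : ℕ)).eq
        rw [mul_assoc h, ← mul_assoc (z ^ (a1 : ℕ)), h3]; group
      rw [h2, ← pow_add, ← two_mul, pow_mul, c.z_pow, one_pow, mul_one] at h1
      exact c.z_ne_one (mul_eq_left.1 h1)
    obtain ⟨yh, hyh, hyhh⟩ := c.exists_conj_translate t.comm_mem hh (hnc h hh hh2 hhz) 1
    obtain ⟨b2, hb2⟩ := hzpow yh hyh g hg
    obtain ⟨yg, hyg, hygg⟩ := c.exists_conj_translate t.comm_mem hg (hnc g hg hg2 hgz) 1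
    obtain ⟨a2, ha2⟩ := hzpow yg hyg h hh
    have hone : ∀ x : G, (1 : G) * x * 1⁻¹ = x * z ^ 0 := fun x => by simp
    have hf : ∀ a : Fin 2, (a : ℕ) = 0 ∨ (a : ℕ) = 1 := fun a => by omega
    -- the two basic elements
    obtain ⟨u1, hu1, hu1h, hu1g⟩ : ∃ u ∈ Y, u * h * u⁻¹ = h * z ^ 1 ∧ u * g * u⁻¹ = g * z ^ 0 := by
      rcases hf b2 with e | e
      · exact ⟨yh, hyh, hyhh, e ▸ hb2⟩
      rcases hf a1 with ea | ea
      · have eb : (b1 : ℕ) = 1 := by
          rcases hf b1 with eb | eb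
          · exact absurd (Fin.ext (ea.trans eb.symm)) hne
          · exact eb
        refine ⟨y * yh, Y.mul_mem hy hyh, ?_, ?_⟩
        · simpa [ea] using hmul hy hh ha1 hyhh
        · have := hmul hy hg hb1 hb2
          rw [eb, e, hz0] at this; exact this
      · have eb : (b1 : ℕ) = 0 := by
          rcases hf b1 with eb | eb
          · exact eb
          · exact absurd (Fin.ext (ea.trans eb.symm)) hne
        exact ⟨y, hy, ea ▸ ha1, eb ▸ hb1⟩
    obtain ⟨u2, hu2, hu2h, hu2g⟩ : ∃ u ∈ Y, u * h * u⁻¹ = h * z ^ 0 ∧ u * g * u⁻¹ = g * z ^ 1 := by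
      rcases hf a2 with e | e
      · exact ⟨yg, hyg, e ▸ ha2, hygg⟩
      · refine ⟨u1 * yg, Y.mul_mem hu1 hyg, ?_, ?_⟩
        · have := hmul hu1 hh hu1h ha2
          rw [e, hz0] at this; exact this
        · simpa using hmul hu1 hg hu1g hygg
    intro a b
    rcases hf a with ea | ea <;> rcases hf b with eb | eb <;> rw [ea, eb]
    · exact ⟨1, Y.one_mem, hone h, hone g⟩
    · exact ⟨u2, hu2, hu2h, hu2g⟩
    · exact ⟨u1, hu1, hu1h, hu1g⟩
    · exact ⟨u1 * u2, Y.mul_mem hu1 hu2, by simpa using hmul hu1 hh hu1h hu2h,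
        by simpa using hmul hu1 hg hu1g hu2g⟩
  set T : Set (G × G) := {x | x.1 ∈ Y ∧ x.2 ∈ Y}
  set N := A ⊓ Subgroup.normalizer (Y : Set G)
  let _ : MulAction N T := conjOn2 N T fun g hg x hx => ⟨m.conj_mem hg hx.1, m.conj_mem hg hx.2⟩
  set K := Subgroup.closure ({h, g} : Set G)
  set U := cS S K
  have hU1 : U ≠ ⊥ := by
    obtain ⟨u, hu, hu1, hhu, hgu⟩ := hfix
    intro hbot
    refine hu1 (Subgroup.mem_bot.1 (hbot ▸ (?_ : u ∈ cS S K)))
    rw [cS_closure]
    refine ⟨hu, Subgroup.mem_centralizer_iff.2 ?_⟩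
    rintro k (rfl | rfl) <;> assumption
  have hb := m.lin.orbit_bound (M := N) inf_le_left m.cov (ι := T) ⟨(h, g), hh, hg⟩
    (U := U) (cS_le _ _) hU1 ?_ (c := 4) (r' := 2) ?_ ?_
  rotate_left
  · intro k hk u hu
    have hk' : (k.1 * h * k.1⁻¹, k.1 * g * k.1⁻¹) = (h, g) := congrArg Subtype.val hk
    rw [Prod.mk.injEq] at hk'
    obtain ⟨huS, huK⟩ := mem_cS.1 hu
    have e1 := conj_mem_cS_zpowers (S := S) (m.lin.conj_mem k.2.1 huS) hk'.1
      (huK h (Subgroup.subset_closure (by simp)))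
    have e2 := conj_mem_cS_zpowers (S := S) (m.lin.conj_mem k.2.1 huS) hk'.2
      (huK g (Subgroup.subset_closure (by simp)))
    show _ ∈ cS S K
    rw [cS_closure]
    refine ⟨(cS_zpowers.1 e1).1, Subgroup.mem_centralizer_iff.2 ?_⟩
    rintro l (rfl | rfl)
    · exact (cS_zpowers.1 e1).2
    · exact (cS_zpowers.1 e2).2
  · let f : Fin 2 × Fin 2 → T := fun a => ⟨(h * z ^ (a.1 : ℕ), g * z ^ (a.2 : ℕ)),
      Y.mul_mem hh (Y.pow_mem c.zY _), Y.mul_mem hg (Y.pow_mem c.zY _)⟩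
    have hinj : Function.Injective f := fun i j hij => by
      have h1 := congrArg (fun x : T => x.1) hij
      simp only [f, Prod.mk.injEq, mul_right_inj] at h1
      exact Prod.ext (Fin.ext (pow_injOn_Iio_orderOf (by rw [c.zord]; exact i.1.2)
          (by rw [c.zord]; exact j.1.2) h1.1))
        (Fin.ext (pow_injOn_Iio_orderOf (by rw [c.zord]; exact i.2.2)
          (by rw [c.zord]; exact j.2.2) h1.2))
    calc 4 = (Set.range f).ncard := by
          rw [← Nat.card_coe_set_eq, Nat.card_range_of_injective hinj, Nat.card_prod, Nat.card_fin]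
      _ ≤ _ := Set.ncard_le_ncard (by
          rintro _ ⟨a, rfl⟩
          obtain ⟨y, hy, h1, h2⟩ := htr a.1 a.2
          exact ⟨⟨y, m.le_N hy⟩, m.leD hy, Subtype.ext (Prod.ext h1 h2)⟩)
  · intro u hu hu1
    refine c.r_le_stab_orbit m.le_N (cS_le _ _ hu) hu1
      (fix := fun k => k • (⟨(h, g), hh, hg⟩ : T) = ⟨(h, g), hh, hg⟩)
      (fun k hk => Subtype.ext ?_) rfl
    show (k.1 * h * k.1⁻¹, k.1 * g * k.1⁻¹) = (h, g)
    rw [(c.commute_zpowers hk hh).eq, (c.commute_zpowers hk hg).eq, mul_inv_cancel_right,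
      mul_inv_cancel_right]
  -- the four components
  set E := Subgroup.closure ({h, g, z} : Set G)
  have hEY : E ≤ Y := by
    rw [Subgroup.closure_le]; rintro x (rfl | rfl | rfl) <;> [exact hh; exact hg; exact c.zY]
  have hhE : h ∈ E := Subgroup.subset_closure (by simp)
  have hgE : g ∈ E := Subgroup.subset_closure (by simp)
  have hzE : z ∈ E := Subgroup.subset_closure (by simp)
  have hu := m.lin.prod_card_cS_le (hEY.trans m.leA) (m.not_p_dvd hEY)
    (closure_comm (by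
      rintro a (rfl | rfl | rfl) b (rfl | rfl | rfl) <;>
        first | rfl | exact hcomm | exact hcomm.symm | exact (c.zc _ hh).symm | exact c.zc _ hh
              | exact (c.zc _ hg).symm | exact c.zc _ hg))
    (ι := Fin 2 × Fin 2)
    (fun a => Subgroup.closure ({h * z ^ (a.1 : ℕ), g * z ^ (a.2 : ℕ)} : Set G))
    (fun a => by
      rw [Subgroup.closure_le]
      rintro x (rfl | rfl)
      · exact E.mul_mem hhE (E.pow_mem hzE _)
      · exact E.mul_mem hgE (E.pow_mem hzE _))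
    (fun a b hab => ?_) ?_
  rotate_left
  · set H := Subgroup.closure ({h * z ^ (a.1 : ℕ), g * z ^ (a.2 : ℕ)} : Set G)
      ⊔ Subgroup.closure ({h * z ^ (b.1 : ℕ), g * z ^ (b.2 : ℕ)} : Set G)
    have ha1 : h * z ^ (a.1 : ℕ) ∈ H := Subgroup.mem_sup_left (Subgroup.subset_closure (by simp))
    have ha2 : g * z ^ (a.2 : ℕ) ∈ H := Subgroup.mem_sup_left (Subgroup.subset_closure (by simp))
    have hb1 : h * z ^ (b.1 : ℕ) ∈ H := Subgroup.mem_sup_right (Subgroup.subset_closure (by simp))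
    have hb2 : g * z ^ (b.2 : ℕ) ∈ H := Subgroup.mem_sup_right (Subgroup.subset_closure (by simp))
    have hzH : z ∈ H := by
      rcases not_and_or.1 (fun he : a.1 = b.1 ∧ a.2 = b.2 => hab (Prod.ext he.1 he.2)) with e | e
      · have hd := H.mul_mem (H.inv_mem ha1) hb1
        have hv : (a.1 : ℕ) ≠ b.1 := fun h => e (Fin.ext h)
        rcases (show ((a.1 : ℕ) = 0 ∧ (b.1 : ℕ) = 1) ∨ ((a.1 : ℕ) = 1 ∧ (b.1 : ℕ) = 0) by omega)
          with ⟨x, y⟩ | ⟨x, y⟩ <;> rw [x, y] at hd <;> simp [mul_assoc] at hd <;> exact hd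
      · have hd := H.mul_mem (H.inv_mem ha2) hb2
        have hv : (a.2 : ℕ) ≠ b.2 := fun h => e (Fin.ext h)
        rcases (show ((a.2 : ℕ) = 0 ∧ (b.2 : ℕ) = 1) ∨ ((a.2 : ℕ) = 1 ∧ (b.2 : ℕ) = 0) by omega)
          with ⟨x, y⟩ | ⟨x, y⟩ <;> rw [x, y] at hd <;> simp [mul_assoc] at hd <;> exact hd
    rw [Subgroup.closure_le]
    rintro x (rfl | rfl | rfl)
    · simpa using H.mul_mem ha1 (H.inv_mem (H.pow_mem hzH a.1))
    · simpa using H.mul_mem ha2 (H.inv_mem (H.pow_mem hzH a.2))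
    · exact hzH
  · rw [eq_bot_iff, ← c.cS_z]
    exact cS_anti S (Subgroup.zpowers_le.2 hzE)
  rw [Finset.prod_eq_pow_card (b := Nat.card U) (fun a _ => by
      obtain ⟨y, hy, h1, h2⟩ := htr a.1 a.2
      rw [← card_cS_conj (m.lin.A_norm (m.leA hy)) K, MonoidHom.map_closure, Set.image_pair,
        ← h1, ← h2]
      rfl), Finset.card_univ, Fintype.card_prod, Fintype.card_fin] at hu
  -- arithmetic
  have hT : Nat.card T ≤ Nat.card Y * Nat.card Y := by
    rw [← Nat.card_prod]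
    refine Nat.card_le_card_of_injective (fun x => ((⟨x.1.1, x.2.1⟩ : Y), (⟨x.1.2, x.2.2⟩ : Y))) ?_
    intro x y hxy
    simp only [Prod.mk.injEq, Subtype.mk.injEq] at hxy
    exact Subtype.ext (Prod.ext hxy.1 hxy.2)
  have hcard := t.card_le
  rw [if_pos rfl] at hcard
  set n := Nat.card S
  set L := Nat.log 2 n
  set u := Nat.card U
  have h16 := four_mul_le_of_log hn (L := L) rfl
  have hL1 : 1 ≤ L := le_trans (by norm_num) (Nat.le_log_of_pow_le one_lt_two hn)
  have hu1 : 1 ≤ u := Nat.card_pos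
  have h4 : D.index * 8 ≤ 8 * (2 * L ^ 4 * (u - 1)) := by
    calc D.index * 8 = D.index * 4 * 2 := by ring
      _ ≤ Nat.card T * (u - 1) := hb
      _ ≤ (L * L * 4) * (L * L * 4) * (u - 1) :=
          Nat.mul_le_mul_right _ (hT.trans (Nat.mul_le_mul hcard hcard))
      _ = 8 * (2 * L ^ 4 * (u - 1)) := by ring
  have h5 : D.index + 1 ≤ 2 * L ^ 4 * u := by
    obtain ⟨w, hw⟩ : ∃ w, u = w + 1 := ⟨u - 1, by omega⟩
    rw [hw] at h4 ⊢
    simp at h4
    have : 1 ≤ L ^ 4 := Nat.one_le_pow _ _ hL1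
    nlinarith
  have h7 : ((2 * L ^ 4 * u) ^ 2) ^ 2 ≤ n ^ 2 := by
    calc ((2 * L ^ 4 * u) ^ 2) ^ 2 = (16 * L ^ 16) * u ^ (2 * 2) := by ring
      _ ≤ n * n := Nat.mul_le_mul h16 hu
      _ = n ^ 2 := by ring
  exact le_trans (Nat.pow_le_pow_left h5 2) ((Nat.pow_le_pow_iff_left (by norm_num)).1 h7)

/-- Every involution commutes only with its own translates. -/
theorem sq_le_two (t : ClassTwo D A S p 2 Y z) (hn : 2 ^ 256 ≤ Nat.card S) :
    (D.index + 1) ^ 2 ≤ Nat.card S := by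
  have c := t.cen
  have m := c.mb
  have := Fact.mk m.rprime
  set I : Set G := {x | x ∈ Y ∧ x ^ 2 = 1 ∧ x ∉ Subgroup.zpowers z}
  obtain ⟨h, hh, hh2, hbad, hnc⟩ := t.exists_bad
  have hhz : h ∉ Subgroup.zpowers z := fun hc => hnc fun y hy => c.commute_zpowers hc hy
  by_cases hpair : ∃ a ∈ I, ∃ b ∈ I, a * b = b * a ∧ a * b ∉ Subgroup.zpowers z
  · obtain ⟨a, ⟨ha, ha2, haz⟩, b, ⟨hb, hb2, hbz⟩, hab, habz⟩ := hpair
    -- make `a` bad, then `b`
    obtain ⟨i, hi⟩ := c.exists_bad_translate ha ha2 haz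
    obtain ⟨-, hU1⟩ := bad_iff.1 hi
    have hzi : z ^ i ∈ Subgroup.zpowers z := Subgroup.pow_mem _ (Subgroup.mem_zpowers z) i
    set a' := a * z ^ i
    have ha' : a' ∈ Y := Y.mul_mem ha (Y.pow_mem c.zY i)
    have ha'b : a' * b = b * a' :=
      ((show Commute a b from hab).mul_left (c.commute_zpowers hzi hb)).eq
    have hinv : ∀ x ∈ Y, x * a' = a' * x →
        ∀ u ∈ cS S (Subgroup.zpowers a'), x * u * x⁻¹ ∈ cS S (Subgroup.zpowers a') :=
      fun x hx hxa u hu => conj_mem_cS_zpowers (m.lin.conj_mem (m.leA hx) (cS_le _ _ hu))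
        (by rw [hxa, mul_inv_cancel_right]) (cS_zpowers.1 hu).2
    obtain ⟨j, u, hu, hu1, hfix⟩ := m.lin.exists_fixed_on_line m.ne (m.leA hb) (m.leA c.zY)
      (c.zc b hb).symm hb2 c.z_pow (cS_le _ _) hU1 (hinv b hb ha'b.symm)
      (hinv z c.zY (c.zc a' ha')) (fun v hv he =>
        c.zfpf z (Subgroup.mem_zpowers z) c.z_ne_one v (cS_le _ _ hv) he)
    have hzj : z ^ j ∈ Subgroup.zpowers z := Subgroup.pow_mem _ (Subgroup.mem_zpowers z) j
    refine t.sq_le_pair hn (h := a') (g := b * z ^ j) ha' ?_ ?_ (Y.mul_mem hb (Y.pow_mem c.zY j))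
      ?_ ?_ ((show Commute a' b from ha'b).mul_right (c.commute_zpowers hzj ha').symm).eq ?_
      ⟨u, cS_le _ _ hu, hu1, (cS_zpowers.1 hu).2, hfix⟩
    · rw [(c.commute_zpowers hzi ha).symm.mul_pow, ha2, ← pow_mul, mul_comm, pow_mul, c.z_pow,
        one_pow, one_mul]
    · exact fun hc => haz ((Subgroup.mul_mem_cancel_right _ hzi).1 hc)
    · rw [(c.commute_zpowers hzj hb).symm.mul_pow, hb2, ← pow_mul, mul_comm, pow_mul, c.z_pow,
        one_pow, one_mul]
    · exact fun hc => hbz ((Subgroup.mul_mem_cancel_right _ hzj).1 hc)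
    · intro hc
      have h1 : a' * (b * z ^ j) = a * b * (z ^ i * z ^ j) := by
        have h3 := (c.commute_zpowers hzi hb).eq
        simp only [a', mul_assoc]
        rw [← mul_assoc (z ^ i) b, h3, mul_assoc]
      rw [h1] at hc
      exact habz ((Subgroup.mul_mem_cancel_right _ (Subgroup.mul_mem _ hzi hzj)).1 hc)
  push Not at hpair
  -- an involution not commuting with `h`
  obtain ⟨b, hb, hhb⟩ : ∃ b ∈ I, h * b ≠ b * h := by
    by_contra hall
    push Not at hall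
    apply hnc
    intro y hy
    rw [← m.closure_eq] at hy
    have hle : Subgroup.closure {y : G | y ∈ Y ∧ y ^ 2 = 1} ≤ Subgroup.centralizer {h} := by
      rw [Subgroup.closure_le]
      intro x hx
      rw [SetLike.mem_coe, Subgroup.mem_centralizer_singleton_iff]
      by_cases hxz : x ∈ Subgroup.zpowers z
      · exact (c.commute_zpowers hxz hh).eq
      · exact (hall x ⟨hx.1, hx.2, hxz⟩).symm
    exact (Subgroup.mem_centralizer_singleton_iff.1 (hle hy)).symm
  -- the homomorphisms `y ↦ [y, h]`, `y ↦ [y, b]`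
  have hval : ∀ w ∈ Subgroup.zpowers z, w = 1 ∨ w = z := by
    intro w hw
    obtain ⟨i, hi, rfl⟩ := exists_pow_eq_of_mem_zpowers hw
    rw [c.zord] at hi
    interval_cases i <;> simp
  let χ : ∀ x, x ∈ Y → (Y →* Subgroup.zpowers z) := fun x hx =>
    { toFun := fun y => ⟨y.1 * x * y.1⁻¹ * x⁻¹, t.comm_mem y.1 y.2 x hx⟩
      map_one' := Subtype.ext (by show (1 : G) * x * 1⁻¹ * x⁻¹ = 1; group)
      map_mul' := fun y y' => Subtype.ext (by
        show y.1 * y'.1 * x * (y.1 * y'.1)⁻¹ * x⁻¹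
          = (y.1 * x * y.1⁻¹ * x⁻¹) * (y'.1 * x * y'.1⁻¹ * x⁻¹)
        set w := y'.1 * x * y'.1⁻¹ * x⁻¹ with hw
        have hwz : w ∈ Subgroup.zpowers z := t.comm_mem _ y'.2 _ hx
        calc y.1 * y'.1 * x * (y.1 * y'.1)⁻¹ * x⁻¹ = y.1 * w * (x * y.1⁻¹ * x⁻¹) := by
              rw [hw]; group
          _ = w * (y.1 * x * y.1⁻¹ * x⁻¹) := by
              rw [← (c.commute_zpowers hwz y.2).eq]; group
          _ = _ := (c.commute_zpowers hwz (Y.mul_mem (Y.mul_mem (Y.mul_mem y.2 hx)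
              (Y.inv_mem y.2)) (Y.inv_mem hx))).eq) }
  have hker : ∀ x (hx : x ∈ Y) (y : Y), χ x hx y = 1 ↔ y.1 * x = x * y.1 := fun x hx y => by
    rw [← Subtype.coe_inj]
    show y.1 * x * y.1⁻¹ * x⁻¹ = 1 ↔ _
    rw [mul_inv_eq_one, mul_inv_eq_iff_eq_mul]
  let ψ : Y →* Subgroup.zpowers z × Subgroup.zpowers z := (χ h hh).prod (χ b hb.1)
  set Q := ψ.ker
  set q := Nat.card Q
  have hχz : ∀ x (hx : x ∈ Y) (y : Y), y.1 * x ≠ x * y.1 → (χ x hx y : G) = z := by
    intro x hx y hne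
    rcases hval _ (χ x hx y).2 with e | e
    · exact absurd ((hker x hx y).1 (Subtype.ext e)) hne
    · exact e
  have hψh : ψ ⟨h, hh⟩ = (1, ⟨z, Subgroup.mem_zpowers z⟩) :=
    Prod.ext ((hker h hh ⟨h, hh⟩).2 rfl) (Subtype.ext (hχz b hb.1 ⟨h, hh⟩ hhb))
  have hψb : ψ ⟨b, hb.1⟩ = (⟨z, Subgroup.mem_zpowers z⟩, 1) :=
    Prod.ext (Subtype.ext (hχz h hh ⟨b, hb.1⟩ (Ne.symm hhb))) ((hker b hb.1 ⟨b, hb.1⟩).2 rfl)
  have hψsurj : Function.Surjective ψ := by
    rintro ⟨⟨v, hv⟩, ⟨w, hw⟩⟩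
    rcases hval v hv with rfl | rfl <;> rcases hval w hw with rfl | rfl
    · exact ⟨1, map_one ψ⟩
    · exact ⟨⟨h, hh⟩, hψh⟩
    · exact ⟨⟨b, hb.1⟩, hψb⟩
    · exact ⟨⟨b, hb.1⟩ * ⟨h, hh⟩, by rw [map_mul, hψb, hψh]; simp⟩
  have hY4 : Nat.card Y = 4 * q := by
    rw [Subgroup.card_eq_card_quotient_mul_card_subgroup ψ.ker,
      Nat.card_congr (QuotientGroup.quotientKerEquivOfSurjective ψ hψsurj).toEquiv, Nat.card_prod,
      Nat.card_zpowers, c.zord]
  -- involutions commuting with `h` or `b`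
  have hclose : ∀ x ∈ I, ∀ a ∈ I, a * x = x * a → x = a ∨ x = a * z := by
    intro x hx a ha hax
    have hxz := hpair a ha x hx hax
    have haa : a * a = 1 := by rw [← sq]; exact ha.2.1
    rcases hval _ hxz with e | e
    · left; rw [← one_mul x, ← haa, mul_assoc, e, mul_one]
    · right; rw [← one_mul x, ← haa, mul_assoc, e]
  have hIq : I.ncard ≤ 2 * q := by
    set top : Set G :=
      (fun y : Y => y.1) '' {y : Y | ψ y = ψ (⟨b, hb.1⟩ * ⟨h, hh⟩) ∧ y.1 ^ 2 = 1}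
    have hsub : I ⊆ ({h, h * z, b, b * z} : Set G) ∪ top := by
      intro x hx
      by_cases e1 : h * x = x * h
      · left; rcases hclose x hx h ⟨hh, hh2, hhz⟩ e1 with r | r <;> simp [r]
      by_cases e2 : b * x = x * b
      · left; rcases hclose x hx b hb e2 with r | r <;> simp [r]
      right
      refine ⟨⟨x, hx.1⟩, ⟨?_, hx.2.1⟩, rfl⟩
      rw [map_mul, hψb, hψh]
      refine Prod.ext (Subtype.ext ?_) (Subtype.ext ?_)
      · simpa [ψ] using hχz h hh ⟨x, hx.1⟩ (Ne.symm e1)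
      · simpa [ψ] using hχz b hb.1 ⟨x, hx.1⟩ (Ne.symm e2)
    have hfour : ({h, h * z, b, b * z} : Set G).ncard ≤ 4 := by
      refine (Set.ncard_insert_le _ _).trans (Nat.succ_le_succ ?_)
      refine (Set.ncard_insert_le _ _).trans (Nat.succ_le_succ ?_)
      exact (Set.ncard_insert_le _ _).trans (Nat.succ_le_succ (le_of_eq (Set.ncard_singleton _)))
    have htop : top.ncard ≤ q := by
      refine (Set.ncard_image_le).trans ?_
      rw [← Nat.card_coe_set_eq]
      refine Nat.card_le_card_of_injective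
        (fun y => (⟨(⟨b, hb.1⟩ * ⟨h, hh⟩)⁻¹ * y.1, by
          rw [MonoidHom.mem_ker, map_mul, y.2.1, map_inv, inv_mul_cancel]⟩ : Q)) ?_
      intro y y' hyy
      exact Subtype.ext (mul_left_cancel (congrArg Subtype.val hyy))
    have h1 := (Set.ncard_le_ncard hsub).trans (Set.ncard_union_le _ _)
    by_cases hq4 : 4 ≤ q
    · omega
    -- `Q = ⟨z⟩`
    have hzQ : ⟨z, c.zY⟩ ∈ Q := by
      rw [MonoidHom.mem_ker]
      exact Prod.ext ((hker h hh _).2 (c.zc h hh)) ((hker b hb.1 _).2 (c.zc b hb.1))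
    have hq : q = 2 := by
      obtain ⟨i, hi⟩ := (m.pgroup.to_subgroup Q).exists_card_eq
      have hi0 : i ≠ 0 := fun h0 => by
        have : Q = ⊥ := Subgroup.card_eq_one.1 (by rw [hi, h0, pow_zero])
        rw [this, Subgroup.mem_bot] at hzQ
        exact c.z_ne_one (congrArg Subtype.val hzQ)
      have hi2 : i < 2 := by
        by_contra hc
        have : 2 ^ 2 ≤ 2 ^ i := Nat.pow_le_pow_right (by norm_num) (by omega)
        omega
      show Nat.card Q = 2
      rw [hi, show i = 1 by omega, pow_one]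
    have hQz : ∀ y ∈ Q, y = 1 ∨ y = ⟨z, c.zY⟩ := by
      have : Subgroup.zpowers (⟨z, c.zY⟩ : Y) = Q :=
        Subgroup.eq_of_le_of_card_ge (Subgroup.zpowers_le.2 hzQ) (by
          rw [Nat.card_zpowers, ← Subgroup.orderOf_coe, c.zord]; exact hq.le)
      intro y hy
      rw [← this] at hy
      have hy' : y.1 ∈ Subgroup.zpowers z := by
        obtain ⟨k, hk⟩ := hy
        exact ⟨k, by rw [← hk]; rfl⟩
      rcases hval _ hy' with e | e
      · exact Or.inl (Subtype.ext e)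
      · exact Or.inr (Subtype.ext e)
    have htop0 : top = ∅ := by
      rw [Set.eq_empty_iff_forall_notMem]
      rintro _ ⟨y, ⟨hy, hy2⟩, rfl⟩
      have hyQ : (⟨b, hb.1⟩ * ⟨h, hh⟩ : Y)⁻¹ * y ∈ Q := by
        rw [MonoidHom.mem_ker, map_mul, hy, map_inv, inv_mul_cancel]
      have hbh2 : (b * h) ^ 2 ≠ 1 := by
        intro he
        rw [sq] at he
        have hbb : b⁻¹ = b := inv_eq_of_mul_eq_one_right (by rw [← sq]; exact hb.2.1)
        have hhh : h⁻¹ = h := inv_eq_of_mul_eq_one_right (by rw [← sq, hh2])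
        have h3 := mul_eq_one_iff_eq_inv.1 he
        rw [mul_inv_rev, hbb, hhh] at h3
        exact hhb h3.symm
      apply hbh2
      rcases hQz _ hyQ with e | e
      · have e' : y.1 = b * h := congrArg Subtype.val (inv_mul_eq_one.1 e).symm
        rw [← e', hy2]
      · have e' : y.1 = b * h * z := congrArg Subtype.val (inv_mul_eq_iff_eq_mul.1 e)
        rw [e', (c.zc (b * h) (Y.mul_mem hb.1 hh) ▸ rfl : b * h * z = b * h * z),
          (show Commute (b * h) z from (c.zc _ (Y.mul_mem hb.1 hh)).symm).mul_pow, c.z_pow,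
          mul_one] at hy2
        exact hy2
    rw [htop0, Set.union_empty] at hsub
    have := Set.ncard_le_ncard hsub
    omega
  -- the orbit bound
  obtain ⟨hh1, hU1⟩ := bad_iff.1 hbad
  set N := A ⊓ Subgroup.normalizer (Y : Set G)
  let _ : MulAction N I := conjOn N I fun g hg x hx => ⟨m.conj_mem hg hx.1,
    by rw [conj_pow, hx.2.1]; group, fun hc => hx.2.2 (by
      have hgx : g * x * g⁻¹ ∈ Subgroup.zpowers z := hc
      refine c.omega x hx.1 (fun y hy => ?_) hx.2.1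
      have h1 := (c.commute_zpowers hgx (m.conj_mem hg hy)).eq
      have h2 : g * (x * y) * g⁻¹ = g * (y * x) * g⁻¹ := by
        simpa [mul_assoc] using h1
      exact mul_left_cancel (mul_right_cancel h2))⟩
  set U := cS S (Subgroup.zpowers h)
  have hb' := m.lin.orbit_bound (M := N) inf_le_left m.cov (ι := I) ⟨h, hh, hh2, hhz⟩
    (U := U) (cS_le _ _) hU1
    (fun g hg u hu => conj_mem_cS_zpowers (m.lin.conj_mem g.2.1 (cS_le _ _ hu))
      (congrArg Subtype.val hg) (cS_zpowers.1 hu).2)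
    (c := 2) (r' := q) ?_ ?_
  rotate_left
  · let f : Fin 2 → I := fun i => ⟨h * z ^ (i : ℕ), Y.mul_mem hh (Y.pow_mem c.zY _), by
        rw [((show Commute z h from c.zc h hh).pow_left (i : ℕ)).symm.mul_pow, hh2, ← pow_mul,
          mul_comm (i : ℕ), pow_mul, c.z_pow, one_pow, one_mul],
        fun hc => hhz ((Subgroup.mul_mem_cancel_right _
          (Subgroup.pow_mem _ (Subgroup.mem_zpowers z) (i : ℕ))).1 hc)⟩
    have hinj : Function.Injective f := fun i j hij => by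
      have h1 : z ^ (i : ℕ) = z ^ (j : ℕ) := mul_left_cancel (congrArg Subtype.val hij)
      exact Fin.ext (pow_injOn_Iio_orderOf (by rw [c.zord]; exact i.2)
        (by rw [c.zord]; exact j.2) h1)
    calc 2 = (Set.range f).ncard := by
          rw [← Nat.card_coe_set_eq, Nat.card_range_of_injective hinj, Nat.card_fin]
      _ ≤ _ := Set.ncard_le_ncard (by
          rintro _ ⟨i, rfl⟩
          obtain ⟨y, hy, hyh⟩ := c.exists_conj_translate t.comm_mem hh hnc i
          exact ⟨⟨y, m.le_N hy⟩, m.leD hy, Subtype.ext hyh⟩)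
  · intro u hu hu1
    set C : Subgroup Y := (χ h hh).ker
    have hC : Nat.card C = 2 * q := by
      have hsurj : Function.Surjective (χ h hh) := fun v =>
        let ⟨y, hy⟩ := hψsurj (v, 1)
        ⟨y, congrArg Prod.fst hy⟩
      have h1 := Subgroup.card_eq_card_quotient_mul_card_subgroup C
      rw [Nat.card_congr (QuotientGroup.quotientKerEquivOfSurjective _ hsurj).toEquiv, hY4,
        Nat.card_zpowers, c.zord] at h1
      omega
    set W := {w : G | ∃ g : N, g.1 ∈ D ∧ g • (⟨h, hh, hh2, hhz⟩ : I) = ⟨h, hh, hh2, hhz⟩ ∧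
      g.1 * u * g.1⁻¹ = w}
    have hmaps : ∀ y ∈ (C : Set Y).toFinite.toFinset, y.1 * u * y.1⁻¹ ∈ W.toFinite.toFinset := by
      intro y hy
      rw [Set.Finite.mem_toFinset] at hy ⊢
      refine ⟨⟨y.1, m.le_N y.2⟩, m.leD y.2, Subtype.ext ?_, rfl⟩
      show y.1 * h * y.1⁻¹ = h
      rw [(hker h hh y).1 hy, mul_inv_cancel_right]
    -- fibres have at most two elements
    have hfib : ∀ w ∈ W.toFinite.toFinset,
        ((C : Set Y).toFinite.toFinset.filter fun y => y.1 * u * y.1⁻¹ = w).card ≤ 2 := by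
      intro w _
      set F := (C : Set Y).toFinite.toFinset.filter fun y => y.1 * u * y.1⁻¹ = w
      by_cases hne : F.Nonempty
      · obtain ⟨y0, hy0⟩ := hne
        simp only [F, Finset.mem_filter, Set.Finite.mem_toFinset, SetLike.mem_coe] at hy0
        refine le_trans (Finset.card_le_card (t := {y0, y0 * ⟨h, hh⟩}) ?_) Finset.card_le_two
        intro y hy
        simp only [F, Finset.mem_filter, Set.Finite.mem_toFinset, SetLike.mem_coe] at hy
        set d := y0⁻¹ * y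
        have hdC : d ∈ C := C.mul_mem (C.inv_mem hy0.1) hy.1
        have hdu : d.1 * u = u * d.1 := by
          rw [← mul_inv_eq_iff_eq_mul]
          calc (y0.1⁻¹ * y.1) * u * (y0.1⁻¹ * y.1)⁻¹ = y0.1⁻¹ * (y.1 * u * y.1⁻¹) * y0.1 := by group
            _ = u := by rw [hy.2, ← hy0.2]; group
        have hdh : d.1 * h = h * d.1 := (hker h hh d).1 hdC
        have hd2 : d.1 ^ 2 = 1 := by
          by_contra hne2
          -- `d ^ 2` is central, hence fixed point free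
          have hd2c : ∀ x ∈ Y, d.1 ^ 2 * x = x * d.1 ^ 2 := by
            intro x hx
            have e : χ x hx (d ^ 2) = 1 := by
              rw [map_pow]
              refine Subtype.ext ?_
              rcases hval _ (χ x hx d).2 with e | e <;> simp [e, c.z_pow]
            exact (hker x hx (d ^ 2)).1 e
          exact c.central_fpf _ (Y.pow_mem d.2 2) hd2c ⟨hne2, u, cS_le _ _ hu, hu1,
            ((show Commute d.1 u from hdu).pow_left 2).eq⟩
        have hd : d.1 = 1 ∨ d.1 = h := by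
          by_cases hdz : d.1 ∈ Subgroup.zpowers z
          · rcases hval _ hdz with e | e
            · exact Or.inl e
            · exact absurd (e ▸ hdu) (c.z_moves (cS_le _ _ hu) hu1)
          · rcases hclose d.1 ⟨d.2, hd2, hdz⟩ h ⟨hh, hh2, hhz⟩ hdh.symm with e | e
            · exact Or.inr e
            · exfalso
              apply c.z_moves (cS_le _ _ hu) hu1
              have hhu : h * u = u * h := (cS_zpowers.1 hu).2
              rw [e] at hdu
              apply mul_left_cancel (a := h)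
              calc h * (z * u) = h * z * u := by group
                _ = u * h * z := by rw [hdu]; group
                _ = h * (u * z) := by rw [← hhu]; group
        simp only [Finset.mem_insert, Finset.mem_singleton]
        have hy' : y = y0 * d := by simp [d]
        rcases hd with e | e
        · left; rw [hy', show d = 1 from Subtype.ext e, mul_one]
        · right; rw [hy', show d = ⟨h, hh⟩ from Subtype.ext e]
      · rw [Finset.not_nonempty_iff_eq_empty.1 hne]; simp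
    have h1 := Finset.card_le_mul_card_image_of_maps_to hmaps 2 hfib
    rw [← Set.ncard_eq_toFinset_card (C : Set Y), ← Set.ncard_eq_toFinset_card W] at h1
    have h2 : (C : Set Y).ncard = Nat.card C := rfl
    omega
  have hq0 : 0 < q := Nat.card_pos
  have hm : D.index ≤ Nat.card U - 1 := by
    rw [Nat.card_coe_set_eq] at hb'
    have h1 : D.index * 2 * q ≤ 2 * q * (Nat.card U - 1) :=
      hb'.trans (Nat.mul_le_mul_right _ hIq)
    apply Nat.le_of_mul_le_mul_left _ (show 0 < 2 * q by omega)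
    calc 2 * q * D.index = D.index * 2 * q := by ring
      _ ≤ _ := h1
  obtain ⟨y, hy, hyh⟩ := c.exists_conj_translate t.comm_mem hh hnc 1
  exact c.sq_le_of_conj hh hh2 hbad ⟨y, hy, by simpa using hyh⟩ hm

end Central.ClassTwo

/-- The case without large elements central modulo `⟨z⟩`. -/
theorem Central.sq_le_noExtraspecial (c : Central D A S p r Y z)
    (hno : ¬ ∃ x ∈ Y, x ^ r = 1 ∧ x ∉ Subgroup.zpowers z ∧
      ∀ y ∈ Y, x * y * x⁻¹ * y⁻¹ ∈ Subgroup.zpowers z) :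
    (D.index + 1) ^ 2 ≤ Nat.card S := by
  have m := c.mb
  push Not at hno
  have hmem : ∀ x : Y, x.1 ∈ Subgroup.zpowers z → x ∈ Subgroup.zpowers (⟨z, c.zY⟩ : Y) := by
    intro x hx
    obtain ⟨k, hk⟩ := hx
    exact ⟨k, Subtype.ext (by simpa using hk)⟩
  have hgen : Subgroup.closure {x : Y | x ^ r = 1} = ⊤ := by
    apply Subgroup.map_injective Y.subtype_injective
    rw [MonoidHom.map_closure, ← MonoidHom.range_eq_map, Subgroup.range_subtype]
    refine (congrArg Subgroup.closure ?_).trans m.closure_eq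
    ext g
    constructor
    · rintro ⟨x, hx, rfl⟩; exact ⟨x.2, congrArg Subtype.val hx⟩
    · rintro ⟨hg, hgr⟩; exact ⟨⟨g, hg⟩, Subtype.ext hgr, rfl⟩
  obtain ⟨hr, hI⟩ := noExtraspecial (Y := Y) m.rprime m.pgroup (z := ⟨z, c.zY⟩)
    (by rw [← Subgroup.orderOf_coe]; exact c.zord)
    (fun y => Subtype.ext (c.zc y.1 y.2))
    (fun x hx hxr => hmem x (c.omega x.1 x.2
      (fun y hy => congrArg Subtype.val (hx ⟨y, hy⟩).eq) (congrArg Subtype.val hxr)))
    (fun x hxr hx => hmem x (by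
      by_contra hxz
      obtain ⟨y, hy, hne⟩ := hno x.1 x.2 (congrArg Subtype.val hxr) hxz
      obtain ⟨k, hk⟩ := hx ⟨y, hy⟩
      exact hne ⟨k, by simpa using congrArg Subtype.val hk⟩))
    hgen (fun hall => c.nonab fun x hx y hy => congrArg Subtype.val (hall ⟨x, hx⟩ ⟨y, hy⟩).eq)
  subst hr
  obtain ⟨h, hh, hh2, hbad⟩ := m.bad
  have hhz : h ∉ Subgroup.zpowers z := fun hc =>
    c.central_fpf h hh (fun y hy => c.commute_zpowers hc hy) hbad
  obtain ⟨hcount, y, hy⟩ := hI ⟨h, hh⟩ (Subtype.ext hh2) (fun hc => hhz (by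
    obtain ⟨k, hk⟩ := hc
    exact ⟨k, by simpa using congrArg Subtype.val hk⟩))
  obtain ⟨hh1, hU1⟩ := bad_iff.1 hbad
  set I : Set G := {x | x ∈ Y ∧ x ^ 2 = 1 ∧ x ∉ Subgroup.zpowers z}
  set N := A ⊓ Subgroup.normalizer (Y : Set G)
  let _ : MulAction N I := conjOn N I fun g hg x hx => ⟨m.conj_mem hg hx.1,
    by rw [conj_pow, hx.2.1]; group, fun hc => hx.2.2 (by
      have hgx : g * x * g⁻¹ ∈ Subgroup.zpowers z := hc
      refine c.omega x hx.1 (fun y hy => ?_) hx.2.1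
      have h1 := (c.commute_zpowers hgx (m.conj_mem hg hy)).eq
      have h2 : g * (x * y) * g⁻¹ = g * (y * x) * g⁻¹ := by
        simpa [mul_assoc] using h1
      exact mul_left_cancel (mul_right_cancel h2))⟩
  set cj := (Set.range fun y : Y => y * (⟨h, hh⟩ : Y) * y⁻¹)
  have hb := m.lin.orbit_bound (M := N) inf_le_left m.cov (ι := I) ⟨h, hh, hh2, hhz⟩
    (U := cS S (Subgroup.zpowers h)) (cS_le _ _) hU1
    (fun g hg u hu => conj_mem_cS_zpowers (m.lin.conj_mem g.2.1 (cS_le _ _ hu))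
      (congrArg Subtype.val hg) (cS_zpowers.1 hu).2)
    (c := cj.ncard) (r' := 2) ?_ ?_
  rotate_left
  · rw [← Nat.card_coe_set_eq, ← Nat.card_coe_set_eq]
    let F : cj → {i : I | ∃ g : N, g.1 ∈ D ∧ g • (⟨h, hh, hh2, hhz⟩ : I) = i} := fun v =>
      ⟨(⟨v.2.choose.1, m.le_N v.2.choose.2⟩ : N) • (⟨h, hh, hh2, hhz⟩ : I),
        ⟨v.2.choose.1, m.le_N v.2.choose.2⟩, m.leD v.2.choose.2, rfl⟩
    refine Nat.card_le_card_of_injective F ?_
    intro v v' hvv
    have h1 : v.2.choose.1 * h * v.2.choose.1⁻¹ = v'.2.choose.1 * h * v'.2.choose.1⁻¹ :=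
      congrArg (fun i : {i : I | ∃ g : N, g.1 ∈ D ∧ g • (⟨h, hh, hh2, hhz⟩ : I) = i} => i.1.1) hvv
    refine Subtype.ext ?_
    rw [← v.2.choose_spec, ← v'.2.choose_spec]
    exact Subtype.ext h1
  · intro u hu hu1
    refine c.r_le_stab_orbit m.le_N (cS_le _ _ hu) hu1
      (fix := fun g => g • (⟨h, hh, hh2, hhz⟩ : I) = ⟨h, hh, hh2, hhz⟩)
      (fun g hg => Subtype.ext ?_) rfl
    show g.1 * h * g.1⁻¹ = h
    rw [(c.commute_zpowers hg hh).eq, mul_inv_cancel_right]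
  have hI' : Nat.card I ≤ {x : Y | x ^ 2 = 1 ∧ x ∉ Subgroup.zpowers (⟨z, c.zY⟩ : Y)}.ncard := by
    rw [← Nat.card_coe_set_eq]
    refine Nat.card_le_card_of_injective (fun x => ⟨⟨x.1, x.2.1⟩, Subtype.ext x.2.2.1, fun hc => x.2.2.2 (by
      obtain ⟨k, hk⟩ := hc
      exact ⟨k, by simpa using congrArg Subtype.val hk⟩)⟩) ?_
    intro a b hab
    exact Subtype.ext (congrArg (fun v => v.1.1) hab)
  have hpos : 0 < cj.ncard := (Set.ncard_pos).2 ⟨_, 1, rfl⟩
  have hm : D.index ≤ Nat.card (cS S (Subgroup.zpowers h)) - 1 := by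
    have h1 := hb.trans (Nat.mul_le_mul_right _ (hI'.trans hcount))
    apply Nat.le_of_mul_le_mul_left _ (show 0 < 2 * cj.ncard by omega)
    calc 2 * cj.ncard * D.index = D.index * cj.ncard * 2 := by ring
      _ ≤ _ := h1
  exact c.sq_le_of_conj hh hh2 hbad ⟨y.1, y.2, congrArg Subtype.val hy⟩ hm

/-- The linear bound. -/
theorem Lin.main (h : Lin D A S p) (hn : 2 ^ 256 ≤ Nat.card S)
    (hbad : ∃ a ∈ A ⊓ D, Bad S a) : (D.index + 1) ^ 2 ≤ Nat.card S := by
  obtain ⟨r, Y, m⟩ := h.exists_minBad hbad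
  by_cases hab : ∀ x ∈ Y, ∀ y ∈ Y, x * y = y * x
  · exact m.sq_le_of_abelian hab
  obtain ⟨z, c⟩ := m.exists_central hab
  by_cases hex : ∃ x ∈ Y, x ^ r = 1 ∧ x ∉ Subgroup.zpowers z ∧
      ∀ y ∈ Y, x * y * x⁻¹ * y⁻¹ ∈ Subgroup.zpowers z
  · have t := c.classTwo_of_exists hex
    by_cases hr : r = 2
    · subst hr
      exact t.sq_le_two hn
    · exact t.sq_le_odd hr hn
  · exact c.sq_le_noExtraspecial hex

end Derange5732
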