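import Cfsg.Agent.Derange5732.Linear.Main

/-!
# Maximal subgroups with fixed points in the class two case

The linear bound without any lower bound on the degree: the orbit lemma is applied to the set of
subgroups of `Y` of largest order having a non-trivial fixed point.
-/

set_option autoImplicit false

namespace Derange5732

open scoped Classical Pointwise
open MulAction

variable {G : Type*} [Group G]

/-- The centraliser in `Y`. -/
def cY (Y K : Subgroup G) : Subgroup G := Y ⊓ Subgroup.centralizer (K : Set G)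

theorem mem_cY {Y K : Subgroup G} {y : G} : y ∈ cY Y K ↔ y ∈ Y ∧ ∀ k ∈ K, k * y = y * k := by
  simp [cY, Subgroup.mem_centralizer_iff]

/-- Number of `x` in `C_Y(L)` with `x ^ r = 1`. -/
noncomputable def numExp (Y L : Subgroup G) (r : ℕ) : ℕ := {x : G | x ∈ cY Y L ∧ x ^ r = 1}.ncard

/-- A small generating set over a subgroup. -/
theorem exists_gen [Finite G] {r : ℕ} [Fact r.Prime] {Y : Subgroup G} (hY : IsPGroup r Y)
    (C : Subgroup G) (hC : C ≤ Y) :
    ∃ T : Finset G, (∀ t ∈ T, t ∈ Y) ∧ Subgroup.closure (T : Set G) ⊔ C = Y ∧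
      Nat.card C * r ^ T.card ≤ Nat.card Y := by
  induction C using WellFoundedGT.induction with
  | _ C ih =>
  by_cases he : C = Y
  · subst he
    exact ⟨∅, by simp, by simp, by simp⟩
  obtain ⟨y, hy, hyC⟩ := SetLike.exists_of_lt (lt_of_le_of_ne hC he)
  have hlt : C < C ⊔ Subgroup.zpowers y :=
    left_lt_sup.2 fun hle => hyC (hle (Subgroup.mem_zpowers y))
  have hC' : C ⊔ Subgroup.zpowers y ≤ Y := sup_le hC (Subgroup.zpowers_le.2 hy)
  obtain ⟨T, hT, hsup, hcard⟩ := ih _ hlt hC'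
  refine ⟨insert y T, ?_, ?_, ?_⟩
  · intro t ht
    rcases Finset.mem_insert.1 ht with rfl | ht
    · exact hy
    · exact hT t ht
  · rw [Finset.coe_insert, Set.insert_eq, Subgroup.closure_union, ← Subgroup.zpowers_eq_closure,
      sup_comm (Subgroup.zpowers y), sup_assoc, sup_comm (Subgroup.zpowers y)]
    exact hsup
  · obtain ⟨a, ha⟩ := (hY.to_le hC).exists_card_eq
    obtain ⟨b, hb⟩ := (hY.to_le hC').exists_card_eq
    have hab : a < b := by
      by_contra hle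
      refine hlt.ne (Subgroup.eq_of_le_of_card_ge hlt.le ?_)
      rw [ha, hb]
      exact Nat.pow_le_pow_right (Fact.out : r.Prime).pos (not_lt.1 hle)
    have h1 : Nat.card C * r ≤ Nat.card ↥(C ⊔ Subgroup.zpowers y) := by
      rw [ha, hb, ← pow_succ]
      exact Nat.pow_le_pow_right (Fact.out : r.Prime).pos hab
    calc Nat.card C * r ^ (insert y T).card ≤ Nat.card C * r ^ (T.card + 1) :=
          Nat.mul_le_mul_left _ (Nat.pow_le_pow_right (Fact.out : r.Prime).pos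
            (Finset.card_insert_le _ _))
      _ = Nat.card C * r * r ^ T.card := by ring
      _ ≤ Nat.card ↥(C ⊔ Subgroup.zpowers y) * r ^ T.card := Nat.mul_le_mul_right _ h1
      _ ≤ _ := hcard

/-- Elements of `L ⊔ ⟨b⟩` when `b` centralises `L`. -/
theorem mem_sup_zpowers_of_comm [Finite G] {L : Subgroup G} {b x : G}
    (hb : ∀ l ∈ L, l * b = b * l) (hx : x ∈ L ⊔ Subgroup.zpowers b) :
    ∃ l ∈ L, ∃ i < orderOf b, l * b ^ i = x := by
  have hn : Subgroup.zpowers b ≤ Subgroup.normalizer (L : Set G) := by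
    rw [Subgroup.le_normalizer_iff]
    rintro g ⟨k, rfl⟩ l hl
    have : Commute (b ^ k) l := ((show Commute l b from hb l hl).symm).zpow_left k
    show b ^ k * l * (b ^ k)⁻¹ ∈ L
    rw [this.eq, mul_inv_cancel_right]
    exact hl
  rw [← SetLike.mem_coe, Subgroup.coe_mul_of_right_le_normalizer_left _ _ hn] at hx
  obtain ⟨l, hl, w, hw, rfl⟩ := hx
  obtain ⟨i, hi, rfl⟩ := exists_pow_eq_of_mem_zpowers hw
  exact ⟨l, hl, i, hi, rfl⟩

/-- Having a non-trivial fixed point. -/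
def Fx (S Y K : Subgroup G) : Prop := K ≤ Y ∧ cS S K ≠ ⊥

theorem Fx.mono {S Y K L : Subgroup G} (h : Fx S Y K) (hle : L ≤ K) : Fx S Y L :=
  ⟨hle.trans h.1, fun he => h.2 (eq_bot_iff.2 (he ▸ cS_anti S hle))⟩

variable [Finite G] {D A S : Subgroup G} {p r : ℕ} {Y : Subgroup G} {z : G}

namespace Central.ClassTwo

variable (t : ClassTwo D A S p r Y z)

include t

omit [Finite G] in
theorem fx_bot : Fx S Y ⊥ := by
  refine ⟨bot_le, fun he => t.cen.mb.S_ne_bot (eq_bot_iff.2 fun s hs => ?_)⟩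
  rw [← he]
  exact mem_cS.2 ⟨hs, fun k hk => by rw [Subgroup.mem_bot.1 hk]; simp⟩

omit [Finite G] in
theorem eq_one_of_mem {K : Subgroup G} (hK : Fx S Y K) {x : G} (hx : x ∈ K)
    (hxz : x ∈ Subgroup.zpowers z) : x = 1 := by
  by_contra hx1
  apply hK.2
  rw [eq_bot_iff]
  intro s hs
  obtain ⟨hsS, hsK⟩ := mem_cS.1 hs
  exact Subgroup.mem_bot.2 (t.cen.zfpf x hxz hx1 s hsS (hsK x hx))

omit [Finite G] in
theorem fx_comm {K : Subgroup G} (hK : Fx S Y K) {a b : G} (ha : a ∈ K) (hb : b ∈ K) :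
    a * b = b * a := by
  have h1 := t.eq_one_of_mem hK (K.mul_mem (K.mul_mem (K.mul_mem ha hb) (K.inv_mem ha)) (K.inv_mem hb))
    (t.comm_mem a (hK.1 ha) b (hK.1 hb))
  rw [mul_inv_eq_one, mul_inv_eq_iff_eq_mul] at h1
  exact h1

theorem fx_eq_one_of_central {K : Subgroup G} (hK : Fx S Y K) {x : G} (hx : x ∈ K)
    (hc : ∀ y ∈ Y, x * y = y * x) : x = 1 := by
  by_contra hx1
  refine t.cen.central_fpf x (hK.1 hx) hc (bad_iff.2 ⟨hx1, fun he => hK.2 ?_⟩)
  exact eq_bot_iff.2 (he ▸ cS_anti S (Subgroup.zpowers_le.2 hx))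

theorem fx_pow {K : Subgroup G} (hK : Fx S Y K) {x : G} (hx : x ∈ K) : x ^ r = 1 := by
  refine t.fx_eq_one_of_central hK (K.pow_mem hx r) fun y hy => ?_
  have hwz := t.comm_mem x (hK.1 hx) y hy
  set w := x * y * x⁻¹ * y⁻¹ with hw
  have h1 : x * y * x⁻¹ = y * w := by
    rw [← (t.cen.commute_zpowers hwz hy).eq, hw]; group
  have h2 := conj_pow_of_central h1 (t.cen.commute_zpowers hwz (hK.1 hx)).symm r
  have h3 : w ^ r = 1 := by
    obtain ⟨i, -, hi⟩ := exists_pow_eq_of_mem_zpowers hwz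
    rw [← hi, ← pow_mul, mul_comm, pow_mul, t.cen.z_pow, one_pow]
  rw [h3, mul_one, mul_inv_eq_iff_eq_mul] at h2
  exact h2

theorem card_zpowers_z : Nat.card (Subgroup.zpowers z) = r :=
  (Nat.card_zpowers z).trans t.cen.zord

omit [Finite G] in
theorem self_le_cY {K : Subgroup G} (hK : Fx S Y K) : K ≤ cY Y K := fun _ hx =>
  mem_cY.2 ⟨hK.1 hx, fun _ hk => t.fx_comm hK hk hx⟩

/-- `K` and `Y / C_Y(K)` are in duality. -/
theorem card_mul_card_cY {K : Subgroup G} (hK : Fx S Y K) :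
    Nat.card K * Nat.card (cY Y K) = Nat.card Y := by
  have c := t.cen
  have := Fact.mk c.mb.rprime
  refine le_antisymm ?_ ?_
  · obtain ⟨T, hT, hsup, hcard⟩ := exists_gen c.mb.pgroup (cY Y K) inf_le_left
    have hle : Nat.card K ≤ r ^ T.card := by
      have hinj : Function.Injective (fun (x : K) (a : T) =>
          (⟨a.1 * x.1 * a.1⁻¹ * x.1⁻¹, t.comm_mem a.1 (hT _ a.2) x.1 (hK.1 x.2)⟩ :
            Subgroup.zpowers z)) := by
        intro x x' hxx
        have hq : ∀ a ∈ T, a * (x'.1⁻¹ * x.1) = (x'.1⁻¹ * x.1) * a := by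
          intro a ha
          have h1 : a * x.1 * a⁻¹ * x.1⁻¹ = a * x'.1 * a⁻¹ * x'.1⁻¹ :=
            congrArg Subtype.val (congrFun hxx ⟨a, ha⟩)
          calc a * (x'.1⁻¹ * x.1)
              = (a * x'.1 * a⁻¹ * x'.1⁻¹ * x'.1)⁻¹ * (a * x.1 * a⁻¹ * x.1⁻¹ * x.1) * a := by group
            _ = _ := by rw [h1]; group
        have hY : Y ≤ Subgroup.centralizer {x'.1⁻¹ * x.1} := by
          conv_lhs => rw [← hsup]
          refine sup_le ((Subgroup.closure_le _).2 fun a ha => ?_) fun a ha => ?_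
          · exact Subgroup.mem_centralizer_singleton_iff.2 (hq a ha)
          · exact Subgroup.mem_centralizer_singleton_iff.2
              ((mem_cY.1 ha).2 _ (K.mul_mem (K.inv_mem x'.2) x.2)).symm
        have h1 := t.fx_eq_one_of_central hK (K.mul_mem (K.inv_mem x'.2) x.2)
          fun y hy => (Subgroup.mem_centralizer_singleton_iff.1 (hY hy)).symm
        exact Subtype.ext (inv_mul_eq_one.1 h1).symm
      calc Nat.card K ≤ Nat.card (T → Subgroup.zpowers z) := Nat.card_le_card_of_injective _ hinj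
        _ = r ^ T.card := by rw [Nat.card_fun, t.card_zpowers_z, Nat.card_eq_finsetCard]
    calc Nat.card K * Nat.card (cY Y K) ≤ r ^ T.card * Nat.card (cY Y K) := Nat.mul_le_mul_right _ hle
      _ = Nat.card (cY Y K) * r ^ T.card := mul_comm _ _
      _ ≤ _ := hcard
  · obtain ⟨T, hT, hsup, hcard⟩ := exists_gen (r := r) (c.mb.pgroup.to_le hK.1) ⊥ bot_le
    rw [sup_bot_eq] at hsup
    rw [Subgroup.card_bot, one_mul] at hcard
    let φ : Y → (T → Subgroup.zpowers z) := fun y a =>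
      ⟨y.1 * a.1 * y.1⁻¹ * a.1⁻¹, t.comm_mem y.1 y.2 a.1 (hK.1 (hT _ a.2))⟩
    have hd : ∀ y y' : Y, φ y = φ y' → y.1⁻¹ * y'.1 ∈ cY Y K := by
      intro y y' hyy
      refine mem_cY.2 ⟨Y.mul_mem (Y.inv_mem y.2) y'.2, fun k hk => ?_⟩
      have hle : K ≤ Subgroup.centralizer {y.1⁻¹ * y'.1} := by
        conv_lhs => rw [← hsup]
        refine (Subgroup.closure_le _).2 fun a ha => Subgroup.mem_centralizer_singleton_iff.2 ?_
        have h1 : y.1 * a * y.1⁻¹ * a⁻¹ = y'.1 * a * y'.1⁻¹ * a⁻¹ :=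
          congrArg Subtype.val (congrFun hyy ⟨a, ha⟩)
        calc a * (y.1⁻¹ * y'.1) = y.1⁻¹ * (y.1 * a * y.1⁻¹ * a⁻¹) * a * y'.1 := by group
          _ = _ := by rw [h1]; group
      exact Subgroup.mem_centralizer_singleton_iff.1 (hle hk)
    let rep : (T → Subgroup.zpowers z) → Y := fun v => if h : ∃ y, φ y = v then h.choose else 1
    have hrep : ∀ y, φ (rep (φ y)) = φ y := fun y => by
      simp only [rep]
      rw [dif_pos ⟨y, rfl⟩]
      exact (⟨y, rfl⟩ : ∃ y', φ y' = φ y).choose_spec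
    have hle : Nat.card Y ≤ Nat.card (cY Y K × (T → Subgroup.zpowers z)) := by
      refine Nat.card_le_card_of_injective
        (fun y => (⟨(rep (φ y)).1⁻¹ * y.1, hd _ _ (hrep y)⟩, φ y)) ?_
      intro y y' hyy
      simp only [Prod.mk.injEq, Subtype.mk.injEq] at hyy
      rw [hyy.2] at hyy
      exact Subtype.ext (mul_left_cancel hyy.1)
    calc Nat.card Y ≤ _ := hle
      _ = Nat.card (cY Y K) * r ^ T.card := by
          rw [Nat.card_prod, Nat.card_fun, t.card_zpowers_z, Nat.card_eq_finsetCard]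
      _ ≤ Nat.card (cY Y K) * Nat.card K := Nat.mul_le_mul_left _ hcard
      _ = _ := mul_comm _ _

/-- The order of `K ⊔ ⟨b⟩`. -/
theorem card_sup_zpowers {L : Subgroup G} {b : G} (hbL : b ∉ L)
    (hfx : Fx S Y (L ⊔ Subgroup.zpowers b)) :
    Nat.card ↥(L ⊔ Subgroup.zpowers b) = r * Nat.card L := by
  have := Fact.mk t.cen.mb.rprime
  have hbm : b ∈ L ⊔ Subgroup.zpowers b := Subgroup.mem_sup_right (Subgroup.mem_zpowers b)
  have hb : ∀ l ∈ L, l * b = b * l := fun l hl =>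
    t.fx_comm hfx (Subgroup.mem_sup_left hl) hbm
  have hord : orderOf b = r :=
    orderOf_eq_prime (t.fx_pow hfx hbm) fun h1 => hbL (h1 ▸ L.one_mem)
  refine le_antisymm ?_ ?_
  · have h1 : ((L ⊔ Subgroup.zpowers b : Subgroup G) : Set G) ⊆
        Set.range (fun x : Fin r × L => x.2.1 * b ^ (x.1 : ℕ)) := by
      intro x hx
      obtain ⟨l, hl, i, hi, rfl⟩ := mem_sup_zpowers_of_comm hb hx
      exact ⟨(⟨i, hord ▸ hi⟩, ⟨l, hl⟩), rfl⟩
    calc Nat.card ↥(L ⊔ Subgroup.zpowers b) = ((L ⊔ Subgroup.zpowers b : Subgroup G) : Set G).ncard := rfl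
      _ ≤ _ := Set.ncard_le_ncard h1
      _ ≤ Nat.card (Fin r × L) := by
          rw [← Nat.card_coe_set_eq]; exact Finite.card_range_le _
      _ = _ := by rw [Nat.card_prod, Nat.card_fin]
  · obtain ⟨i, hi⟩ := (t.cen.mb.pgroup.to_le hfx.1).exists_card_eq
    obtain ⟨j, hj⟩ := (t.cen.mb.pgroup.to_le (le_sup_left.trans hfx.1 : L ≤ Y)).exists_card_eq
    have hlt : L < L ⊔ Subgroup.zpowers b := left_lt_sup.2 fun hle => hbL (hle (Subgroup.mem_zpowers b))
    have hji : j < i := by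
      by_contra hle
      refine hlt.ne (Subgroup.eq_of_le_of_card_ge hlt.le ?_)
      rw [hi, hj]
      exact Nat.pow_le_pow_right t.cen.mb.rprime.pos (not_lt.1 hle)
    rw [hi, hj, ← pow_succ']
    exact Nat.pow_le_pow_right t.cen.mb.rprime.pos hji

/-- Centralising elements of order `r` of a maximal `K` lie in `K × ⟨z⟩`. -/
theorem omega_of_max {K : Subgroup G} (hK : Fx S Y K)
    (hmax : ∀ b ∈ Y, b ∉ K → ¬ Fx S Y (K ⊔ Subgroup.zpowers b)) {x : G} (hx : x ∈ cY Y K)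
    (hxr : x ^ r = 1) : ∃ w ∈ Subgroup.zpowers z, x * w ∈ K := by
  have c := t.cen
  have := Fact.mk c.mb.rprime
  obtain ⟨hxY, hxK⟩ := mem_cY.1 hx
  have hinv : ∀ y ∈ Y, (∀ k ∈ K, k * y = y * k) → ∀ u ∈ cS S K, y * u * y⁻¹ ∈ cS S K := by
    intro y hy hyK u hu
    obtain ⟨huS, huK⟩ := mem_cS.1 hu
    refine mem_cS.2 ⟨c.mb.lin.conj_mem (c.mb.leA hy) huS, fun k hk => ?_⟩
    exact (((show Commute k y from hyK k hk).mul_right (huK k hk)).mul_right
      (show Commute k y from hyK k hk).inv_right).eq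
  obtain ⟨j, u, hu, hu1, hfix⟩ := c.mb.lin.exists_fixed_on_line c.mb.ne (c.mb.leA hxY)
    (c.mb.leA c.zY) (c.zc x hxY).symm hxr c.z_pow (cS_le _ _) hK.2 (hinv x hxY hxK)
    (hinv z c.zY fun k hk => (c.zc k (hK.1 hk)).symm)
    (fun v hv he => c.zfpf z (Subgroup.mem_zpowers z) c.z_ne_one v (cS_le _ _ hv) he)
  refine ⟨z ^ j, Subgroup.pow_mem _ (Subgroup.mem_zpowers z) j, ?_⟩
  by_contra hne
  refine hmax _ (Y.mul_mem hxY (Y.pow_mem c.zY j)) hne
    ⟨sup_le hK.1 (Subgroup.zpowers_le.2 (Y.mul_mem hxY (Y.pow_mem c.zY j))), fun he => hu1 ?_⟩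
  refine Subgroup.mem_bot.1 (he ▸ ?_)
  rw [cS_sup]
  exact ⟨hu, cS_zpowers.2 ⟨cS_le _ _ hu, hfix⟩⟩

theorem numExp_le_of_max {K : Subgroup G} (hK : Fx S Y K)
    (hmax : ∀ b ∈ Y, b ∉ K → ¬ Fx S Y (K ⊔ Subgroup.zpowers b)) :
    numExp Y K r ≤ r * Nat.card K := by
  have h : ∀ x : {x : G | x ∈ cY Y K ∧ x ^ r = 1}, ∃ w ∈ Subgroup.zpowers z, x.1 * w ∈ K :=
    fun x => t.omega_of_max hK hmax x.2.1 x.2.2
  choose w hw hwK using h
  rw [numExp, ← Nat.card_coe_set_eq]
  refine le_trans ?_ (le_of_eq (show Nat.card (Subgroup.zpowers z × K) = r * Nat.card K by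
    rw [Nat.card_prod, t.card_zpowers_z]))
  refine Nat.card_le_card_of_injective
    (fun x => ((⟨w x, hw x⟩ : Subgroup.zpowers z), (⟨x.1 * w x, hwK x⟩ : K))) ?_
  intro x x' he
  simp only [Prod.mk.injEq, Subtype.mk.injEq] at he
  rw [he.1] at he
  exact Subtype.ext (mul_right_cancel he.2)

/-- The number of involutions centralising `L`. -/
theorem numExp_bound_two (hr : r = 2) {k σ : ℕ} (hσ : 1 ≤ σ)
    (hmaxk : ∀ L, Fx S Y L → Nat.card L ≤ r ^ k) (hY : Nat.card Y = r ^ (2 * k + 1) * σ) :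
    ∀ (d j : ℕ) (L : Subgroup G), Fx S Y L → Nat.card L = r ^ j → j + d = k →
      numExp Y L r + σ * r ^ k ≤ σ * r ^ (2 * k - j) + r ^ (k + 1) := by
  subst hr
  intro d
  induction d with
  | zero =>
    intro j L hL hLc hj
    obtain rfl : j = k := by omega
    have h1 := t.numExp_le_of_max hL (fun b hb hbL hfx => by
      have h1 := hmaxk _ hfx
      rw [t.card_sup_zpowers hbL hfx, hLc] at h1
      have : 0 < 2 ^ j := Nat.pow_pos (by norm_num)
      omega)
    rw [hLc, ← pow_succ'] at h1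
    rw [show 2 * j - j = j by omega]
    omega
  | succ d ih =>
    intro j L hL hLc hj
    have hsplit : 2 ^ (2 * k - j) = 2 ^ (k - j) * 2 ^ k := by rw [← pow_add]; congr 1; omega
    have hge : σ * 2 ^ k ≤ σ * 2 ^ (2 * k - j) := by
      rw [hsplit]
      exact Nat.mul_le_mul_left _ (Nat.le_mul_of_pos_left _ (Nat.pow_pos (by norm_num)))
    by_cases hex : ∃ b ∈ Y, b ∉ L ∧ Fx S Y (L ⊔ Subgroup.zpowers b)
    swap
    · push Not at hex
      have h1 := t.numExp_le_of_max hL fun b hb hbL => hex b hb hbL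
      rw [hLc, ← pow_succ'] at h1
      have : 2 ^ (j + 1) ≤ 2 ^ (k + 1) := Nat.pow_le_pow_right (by norm_num) (by omega)
      omega
    obtain ⟨b, hb, hbL, hfx⟩ := hex
    set L' := L ⊔ Subgroup.zpowers b with hL'
    have hL'c : Nat.card L' = 2 ^ (j + 1) := by
      rw [t.card_sup_zpowers hbL hfx, hLc, pow_succ']
    have ih' := ih (j + 1) L' hfx hL'c (by omega)
    have e1 := t.card_mul_card_cY hL
    have e2 := t.card_mul_card_cY hfx
    rw [hLc, ← e2, hL'c, pow_succ] at e1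
    have hhalf : Nat.card (cY Y L) = 2 * Nat.card (cY Y L') :=
      Nat.eq_of_mul_eq_mul_left (Nat.pow_pos (by norm_num : 0 < 2)) (e1.trans (by ring))
    have hsub : cY Y L' ≤ cY Y L := fun x hx =>
      mem_cY.2 ⟨(mem_cY.1 hx).1, fun l hl => (mem_cY.1 hx).2 l (Subgroup.mem_sup_left hl)⟩
    have hbC : b ∈ cY Y L' := t.self_le_cY hfx (Subgroup.mem_sup_right (Subgroup.mem_zpowers b))
    have hb2 : b * b = 1 := by
      rw [← sq]; exact t.fx_pow hfx (Subgroup.mem_sup_right (Subgroup.mem_zpowers b))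
    set rest : Set G := (cY Y L : Set G) \ (cY Y L' : Set G) with hrest
    set inv : Set G := {x | x ∈ rest ∧ x ^ 2 = 1} with hinv
    have hrc : rest.ncard = Nat.card (cY Y L') := by
      rw [hrest, Set.ncard_sdiff hsub]
      show Nat.card (cY Y L) - Nat.card (cY Y L') = _
      omega
    have hmap : ∀ x ∈ inv, x * b ∈ rest ∧ ¬ (x * b) ^ 2 = 1 := by
      rintro x ⟨⟨hxC, hxn⟩, hx2⟩
      refine ⟨⟨(cY Y L).mul_mem hxC (hsub hbC),
        fun hc => hxn (((cY Y L').mul_mem_cancel_right hbC).1 hc)⟩, fun hc => hxn ?_⟩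
      obtain ⟨hxY, hxL⟩ := mem_cY.1 hxC
      have hxi : x⁻¹ = x := inv_eq_of_mul_eq_one_right (by rw [← sq, hx2])
      have hbi : b⁻¹ = b := inv_eq_of_mul_eq_one_right hb2
      rw [sq] at hc
      have hcomm : x * b = b * x := by
        have h1 := eq_inv_of_mul_eq_one_left hc
        rwa [mul_inv_rev, hxi, hbi] at h1
      refine mem_cY.2 ⟨hxY, fun l hl => ?_⟩
      obtain ⟨a, ha, i, -, rfl⟩ := mem_sup_zpowers_of_comm
        (fun l hl => t.fx_comm hfx (Subgroup.mem_sup_left hl)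
          (Subgroup.mem_sup_right (Subgroup.mem_zpowers b))) hl
      exact ((show Commute a x from hxL a ha).mul_left
        ((show Commute b x from hcomm.symm).pow_left i)).eq
    have hinvc : 2 * inv.ncard ≤ rest.ncard := by
      have hdisj : Disjoint inv ((fun x => x * b) '' inv) := by
        rw [Set.disjoint_left]
        rintro _ hy ⟨x, hx, rfl⟩
        exact (hmap x hx).2 hy.2
      calc 2 * inv.ncard = inv.ncard + ((fun x => x * b) '' inv).ncard := by
            rw [Set.ncard_image_of_injective _ (mul_left_injective b)]; ring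
        _ = (inv ∪ (fun x => x * b) '' inv).ncard := (Set.ncard_union_eq hdisj).symm
        _ ≤ _ := Set.ncard_le_ncard (Set.union_subset (fun x hx => hx.1)
            (by rintro _ ⟨x, hx, rfl⟩; exact (hmap x hx).1))
    have hnum : numExp Y L 2 ≤ numExp Y L' 2 + inv.ncard := by
      refine (Set.ncard_le_ncard ?_).trans (Set.ncard_union_le _ _)
      rintro x ⟨hxC, hx2⟩
      by_cases h : x ∈ cY Y L'
      · exact Or.inl ⟨h, hx2⟩
      · exact Or.inr ⟨⟨hxC, h⟩, hx2⟩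
    have hcL' : Nat.card (cY Y L') = 2 ^ (2 * k - j) * σ := by
      rw [hY, hL'c] at e2
      have hpow : 2 ^ (2 * k + 1) = 2 ^ (j + 1) * 2 ^ (2 * k - j) := by
        rw [← pow_add]; congr 1; omega
      rw [hpow, mul_assoc] at e2
      exact Nat.eq_of_mul_eq_mul_left (Nat.pow_pos (by norm_num : 0 < 2)) e2
    have hhalf2 : 2 ^ (2 * k - j) = 2 * 2 ^ (2 * k - (j + 1)) := by
      rw [← pow_succ']; congr 1; omega
    rw [hrc, hcL', hhalf2] at hinvc
    rw [hhalf2]
    have e3 : 2 * 2 ^ (2 * k - (j + 1)) * σ = 2 * (σ * 2 ^ (2 * k - (j + 1))) := by ring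
    have e4 : σ * (2 * 2 ^ (2 * k - (j + 1))) = 2 * (σ * 2 ^ (2 * k - (j + 1))) := by ring
    omega

/-- Counting the maximal subgroups above `L`. -/
theorem count_above {k τ : ℕ}
    (hI : ∀ (j : ℕ) (L : Subgroup G), Fx S Y L → Nat.card L = r ^ j → j ≤ k →
      numExp Y L r + τ * r ^ k ≤ τ * r ^ (2 * k - j) + r ^ (k + 1)) :
    ∀ (d j : ℕ) (L : Subgroup G), Fx S Y L → Nat.card L = r ^ j → j + d = k →
      {K : Subgroup G | Fx S Y K ∧ Nat.card K = r ^ k ∧ L ≤ K}.ncard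
        ≤ ∏ i ∈ Finset.range d, r * (τ * r ^ i + 1) := by
  have hr2 := t.cen.mb.rprime.two_le
  intro d
  induction d with
  | zero =>
    intro j L hL hLc hj
    rw [Finset.range_zero, Finset.prod_empty, Set.ncard_le_one]
    rintro K ⟨-, hKc, hLK⟩ K' ⟨-, hKc', hLK'⟩
    obtain rfl : j = k := by omega
    rw [← Subgroup.eq_of_le_of_card_ge hLK (by rw [hKc, hLc]),
      ← Subgroup.eq_of_le_of_card_ge hLK' (by rw [hKc', hLc])]
  | succ d ih =>
    intro j L hL hLc hj
    have : Fintype G := Fintype.ofFinite G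
    have : Fintype (Subgroup G) := Fintype.ofFinite _
    set 𝒦 := {K : Subgroup G | Fx S Y K ∧ Nat.card K = r ^ k ∧ L ≤ K} with h𝒦
    set F := 𝒦.toFinset
    set cand : Finset G :=
      Finset.univ.filter (fun x => x ∉ L ∧ ∃ K ∈ F, x ∈ K) with hcand
    set P := ∏ i ∈ Finset.range d, r * (τ * r ^ i + 1)
    -- pairs
    have h1 : ∀ K ∈ F, r ^ k - r ^ j ≤ (cand.filter fun x => x ∈ K).card := by
      intro K hK
      obtain ⟨hKf, hKc, hLK⟩ := Set.mem_toFinset.1 hK
      have : ((K : Set G) \ (L : Set G)) ⊆ ((cand.filter fun x => x ∈ K : Finset G) : Set G) := by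
        rintro x ⟨hxK, hxL⟩
        simp only [hcand, Finset.coe_filter, Finset.mem_filter, Finset.mem_univ, true_and,
          Set.mem_ofPred_eq]
        exact ⟨⟨hxL, K, hK, hxK⟩, hxK⟩
      have h2 := Set.ncard_le_ncard this
      rw [Set.ncard_sdiff (SetLike.coe_subset_coe.2 hLK), Set.ncard_coe_finset] at h2
      refine le_trans (le_of_eq ?_) h2
      rw [← hKc, ← hLc]
      rfl
    have h2 : ∀ x ∈ cand, (F.filter fun K => x ∈ K).card ≤ P := by
      intro x hx
      obtain ⟨hxL, K, hK, hxK⟩ := (Finset.mem_filter.1 hx).2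
      obtain ⟨hKf, hKc, hLK⟩ := Set.mem_toFinset.1 hK
      have hfx : Fx S Y (L ⊔ Subgroup.zpowers x) :=
        hKf.mono (sup_le hLK (Subgroup.zpowers_le.2 hxK))
      refine le_trans ?_ (ih (j + 1) _ hfx
        (by rw [t.card_sup_zpowers hxL hfx, hLc, pow_succ']) (by omega))
      rw [Set.ncard_eq_toFinset_card']
      refine Finset.card_le_card fun K' hK' => ?_
      obtain ⟨hK'1, hxK'⟩ := Finset.mem_filter.1 hK'
      obtain ⟨hK'f, hK'c, hLK'⟩ := Set.mem_toFinset.1 hK'1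
      exact Set.mem_toFinset.2 ⟨hK'f, hK'c, sup_le hLK' (Subgroup.zpowers_le.2 hxK')⟩
    have h3 : F.card * (r ^ k - r ^ j) ≤ cand.card * P := by
      calc F.card * (r ^ k - r ^ j) = ∑ _K ∈ F, (r ^ k - r ^ j) := by
            rw [Finset.sum_const, smul_eq_mul]
        _ ≤ ∑ K ∈ F, (cand.filter fun x => x ∈ K).card := Finset.sum_le_sum h1
        _ = ∑ x ∈ cand, (F.filter fun K => x ∈ K).card := by
            simp only [Finset.card_filter]
            exact Finset.sum_comm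
        _ ≤ ∑ _x ∈ cand, P := Finset.sum_le_sum h2
        _ = cand.card * P := by rw [Finset.sum_const, smul_eq_mul]
    -- the candidates
    have h4 : cand.card + r ^ (j + 1) ≤ numExp Y L r := by
      set T : Set G := Set.range (fun a : Subgroup.zpowers z × L => a.2.1 * a.1.1) with hT
      have hTc : T.ncard = r ^ (j + 1) := by
        rw [hT, ← Nat.card_coe_set_eq, Nat.card_range_of_injective, Nat.card_prod,
          t.card_zpowers_z, hLc, pow_succ']
        intro a a' he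
        have he' : a.2.1 * a.1.1 = a'.2.1 * a'.1.1 := he
        have h5 : a'.2.1⁻¹ * a.2.1 = a'.1.1 * a.1.1⁻¹ := by
          rw [inv_mul_eq_iff_eq_mul, ← mul_assoc, ← he', mul_inv_cancel_right]
        have h6 := t.eq_one_of_mem hL (L.mul_mem (L.inv_mem a'.2.2) a.2.2)
          (h5 ▸ (Subgroup.zpowers z).mul_mem a'.1.2 ((Subgroup.zpowers z).inv_mem a.1.2))
        have h7 : a.2 = a'.2 := Subtype.ext (inv_mul_eq_one.1 h6).symm
        refine Prod.ext (Subtype.ext ?_) h7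
        rw [h7] at he'
        exact mul_left_cancel he'
      rw [← hTc, ← Set.ncard_coe_finset, ← Set.ncard_union_eq, numExp]
      · refine Set.ncard_le_ncard ?_
        rintro x (hx | ⟨⟨w, l⟩, rfl⟩)
        · obtain ⟨hxL, K, hK, hxK⟩ := (Finset.mem_filter.1 hx).2
          obtain ⟨hKf, hKc, hLK⟩ := Set.mem_toFinset.1 hK
          exact ⟨mem_cY.2 ⟨hKf.1 hxK, fun l hl => t.fx_comm hKf (hLK hl) hxK⟩, t.fx_pow hKf hxK⟩
        · have hwY : w.1 ∈ Y := t.cen.zpowers_le w.2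
          have hcw : ∀ y ∈ Y, Commute w.1 y := fun y hy => t.cen.commute_zpowers w.2 hy
          refine ⟨mem_cY.2 ⟨Y.mul_mem (hL.1 l.2) hwY, fun a ha => ?_⟩, ?_⟩
          · exact ((show Commute a l.1 from t.fx_comm hL ha l.2).mul_right
              (hcw a (hL.1 ha)).symm).eq
          · show (l.1 * w.1) ^ r = 1
            rw [(hcw l.1 (hL.1 l.2)).symm.mul_pow, t.fx_pow hL l.2, one_mul]
            obtain ⟨i, -, hi⟩ := exists_pow_eq_of_mem_zpowers w.2
            rw [← hi, ← pow_mul, mul_comm, pow_mul, t.cen.z_pow, one_pow]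
      · rw [Set.disjoint_left]
        rintro _ hx ⟨⟨w, l⟩, rfl⟩
        obtain ⟨hxL, K, hK, hxK⟩ := (Finset.mem_filter.1 hx).2
        obtain ⟨hKf, hKc, hLK⟩ := Set.mem_toFinset.1 hK
        have hw : w.1 = 1 := t.eq_one_of_mem hKf ((K.mul_mem_cancel_left (hLK l.2)).1 hxK) w.2
        apply hxL
        show l.1 * w.1 ∈ L
        rw [hw, mul_one]
        exact l.2
    have h5 := hI j L hL hLc (by omega)
    -- arithmetic
    have hkj : r ^ k = r ^ j * r ^ (d + 1) := by rw [← pow_add, hj]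
    have h2kj : r ^ (2 * k - j) = r ^ j * r ^ (d + 1) * r ^ (d + 1) := by
      rw [← pow_add, ← pow_add]; congr 1; omega
    have h6 : cand.card ≤ (r ^ k - r ^ j) * (r * (τ * r ^ d + 1)) := by
      have e : τ * r ^ (2 * k - j) + r ^ (k + 1)
          = τ * r ^ k + (r ^ k - r ^ j) * (r * (τ * r ^ d + 1)) + r ^ (j + 1) := by
        have hle : r ^ j ≤ r ^ k := Nat.pow_le_pow_right (by omega) (by omega)
        obtain ⟨e, he⟩ := Nat.exists_eq_add_of_le hle
        rw [he, Nat.add_sub_cancel_left, h2kj, pow_succ r k, he, pow_succ r j]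
        have he' : r ^ j * r ^ (d + 1) = r ^ j + e := by rw [← hkj, he]
        rw [pow_succ r d] at he' ⊢
        linear_combination (τ * (r ^ d * r + 1)) * he'
      omega
    have hpos : 0 < r ^ k - r ^ j :=
      Nat.sub_pos_of_lt (Nat.pow_lt_pow_right (by omega) (by omega))
    rw [Set.ncard_eq_toFinset_card', Finset.prod_range_succ]
    apply Nat.le_of_mul_le_mul_right _ hpos
    calc F.card * (r ^ k - r ^ j) ≤ cand.card * P := h3
      _ ≤ (r ^ k - r ^ j) * (r * (τ * r ^ d + 1)) * P := Nat.mul_le_mul_right _ h6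
      _ = _ := by ring

/-- In the odd case `Y` has exponent `r`. -/
theorem pow_eq_one_of_odd (hr : r ≠ 2) {x : G} (hx : x ∈ Y) : x ^ r = 1 := by
  have c := t.cen
  have m := c.mb
  obtain ⟨e, he⟩ : r ∣ r.choose 2 :=
    m.rprime.dvd_choose_self two_ne_zero (lt_of_le_of_ne m.rprime.two_le (Ne.symm hr))
  rw [← m.closure_eq] at hx
  induction hx using Subgroup.closure_induction with
  | mem x hx => exact hx.2
  | one => simp
  | inv a _ ih => rw [inv_pow, ih, inv_one]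
  | mul a b ha hb iha ihb =>
    rw [m.closure_eq] at ha hb
    have hwz : b * a * b⁻¹ * a⁻¹ ∈ Subgroup.zpowers z := t.comm_mem b hb a ha
    set w := b * a * b⁻¹ * a⁻¹ with hw
    rw [pow_mul_pow_class_two (c.commute_zpowers hwz ha) (c.commute_zpowers hwz hb)
      (by rw [hw]; group) r, iha, ihb, one_mul, one_mul, he, pow_mul]
    obtain ⟨i, -, hi⟩ := exists_pow_eq_of_mem_zpowers hwz
    rw [← hi, ← pow_mul z, mul_comm, pow_mul, c.z_pow, one_pow, one_pow]

end Central.ClassTwo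

/-! ### Arithmetic -/

theorem arith_two {k σ w n m : ℕ} (hk : 1 ≤ k) (hσ : 1 ≤ σ) (hw : 2 * σ + 1 ≤ w)
    (hm : m * (2 * σ) ≤ (∏ i ∈ Finset.range k, (σ * 2 ^ i + 1)) * (w - 1))
    (hn : w ^ 2 ^ k ≤ n) : (m + 1) ^ 2 ≤ n := by
  set P : ℕ → ℕ := fun k => ∏ i ∈ Finset.range k, (σ * 2 ^ i + 1) with hP
  have hP1 : ∀ k, 2 ≤ k → 2 * σ ≤ P k ∧ P k ≤ 2 * σ * w ^ (2 ^ (k - 1) - 1) := by
    intro k hk
    induction k, hk using Nat.le_induction with
    | base =>
      simp only [hP, Finset.prod_range_succ, Finset.prod_range_zero]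
      constructor
      · nlinarith
      · norm_num
        nlinarith
    | succ j hj ih =>
      have hstep : P (j + 1) = P j * (σ * 2 ^ j + 1) := Finset.prod_range_succ _ _
      obtain ⟨h1, h2⟩ := ih
      refine ⟨h1.trans (hstep ▸ Nat.le_mul_of_pos_right _ (by omega)), ?_⟩
      have he : 2 ^ (j + 1 - 1) - 1 = (2 ^ (j - 1) - 1) + 2 ^ (j - 1) := by
        have : 2 ^ j = 2 ^ (j - 1) + 2 ^ (j - 1) := by
          rw [← two_mul, ← pow_succ']; congr 1; omega
        have : 0 < 2 ^ (j - 1) := Nat.pow_pos (by norm_num)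
        rw [Nat.add_sub_cancel]
        omega
      have h3 : σ * 2 ^ j + 1 ≤ w ^ (2 ^ (j - 1)) := by
        have hj' : 2 ^ j = 2 * 2 ^ (j - 1) := by rw [← pow_succ']; congr 1; omega
        have hpos : 1 ≤ 2 ^ (j - 1) := Nat.one_le_pow _ _ (by norm_num)
        have hbern : 2 ^ (j - 1) ≤ w ^ (2 ^ (j - 1) - 1) := by
          obtain ⟨q, hq⟩ : ∃ q, 2 ^ (j - 1) = q + 1 := ⟨_, (Nat.sub_add_cancel hpos).symm⟩
          rw [hq, Nat.add_sub_cancel]
          calc q + 1 ≤ 2 ^ q := Nat.lt_two_pow_self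
            _ ≤ w ^ q := Nat.pow_le_pow_left (by omega) q
        calc σ * 2 ^ j + 1 ≤ 2 ^ (j - 1) * w := by rw [hj']; nlinarith
          _ ≤ w ^ (2 ^ (j - 1) - 1) * w := Nat.mul_le_mul_right _ hbern
          _ = _ := by rw [← pow_succ, Nat.sub_add_cancel hpos]
      rw [hstep, he, pow_add]
      calc P j * (σ * 2 ^ j + 1)
          ≤ 2 * σ * w ^ (2 ^ (j - 1) - 1) * w ^ (2 ^ (j - 1)) := Nat.mul_le_mul h2 h3
        _ = _ := by ring
  suffices h : m + 1 ≤ w ^ 2 ^ (k - 1) by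
    refine le_trans (Nat.pow_le_pow_left h 2) (le_trans (le_of_eq ?_) hn)
    rw [← pow_mul, ← pow_succ]
    congr 2
    omega
  obtain ⟨v, rfl⟩ : ∃ v, w = v + 1 := ⟨w - 1, by omega⟩
  rw [Nat.add_sub_cancel] at hm
  by_cases hk1 : k = 1
  · subst hk1
    norm_num [Finset.prod_range_succ] at hm ⊢
    nlinarith
  obtain ⟨h1, h2⟩ := hP1 k (by omega)
  have h3 : 2 * σ * (m + 1) ≤ 2 * σ * ((v + 1) ^ (2 ^ (k - 1) - 1) * (v + 1)) := by
    calc 2 * σ * (m + 1) = m * (2 * σ) + 2 * σ := by ring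
      _ ≤ P k * v + P k := Nat.add_le_add hm h1
      _ = P k * (v + 1) := by ring
      _ ≤ _ := by rw [← mul_assoc]; exact Nat.mul_le_mul_right _ h2
  have h4 := Nat.le_of_mul_le_mul_left h3 (by omega)
  rwa [← pow_succ, Nat.sub_add_cancel (Nat.one_le_pow _ _ (by norm_num))] at h4

theorem arith_odd {k r w n m : ℕ} (hk : 1 ≤ k) (hr : 3 ≤ r) (hw : r + 1 ≤ w)
    (hm : m * r ≤ (∏ i ∈ Finset.range k, (r * r ^ i + 1)) * (w - 1))
    (hn : w ^ r ^ k ≤ n) : (m + 1) ^ 2 ≤ n := by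
  set P : ℕ → ℕ := fun k => ∏ i ∈ Finset.range k, (r * r ^ i + 1) with hP
  have hP1 : ∀ k, 1 ≤ k → r ≤ P k ∧ P k ^ 2 ≤ r ^ 2 * w ^ (r ^ k - 2) := by
    intro k hk
    induction k, hk using Nat.le_induction with
    | base =>
      simp only [hP, Finset.prod_range_succ, Finset.prod_range_zero, pow_zero, pow_one, mul_one,
        one_mul]
      refine ⟨by omega, ?_⟩
      calc (r + 1) ^ 2 ≤ r ^ 2 * w := by nlinarith
        _ ≤ r ^ 2 * w ^ (r - 2) := Nat.mul_le_mul_left _ (Nat.le_self_pow (by omega) w)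
    | succ j hj ih =>
      have hstep : P (j + 1) = P j * (r * r ^ j + 1) := Finset.prod_range_succ _ _
      obtain ⟨h1, h2⟩ := ih
      refine ⟨h1.trans (hstep ▸ Nat.le_mul_of_pos_right _ (by omega)), ?_⟩
      have hrj : 3 ≤ r ^ j := le_trans hr (Nat.le_self_pow (by omega) r)
      have hjr : j + 1 ≤ r ^ j := Nat.lt_pow_self (by omega)
      have h3 : r * r ^ j + 1 ≤ w ^ r ^ j := by
        calc r * r ^ j + 1 ≤ (r + 1) * r ^ j := by nlinarith
          _ ≤ w * w ^ j := Nat.mul_le_mul hw (Nat.pow_le_pow_left (by omega) j)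
          _ = w ^ (j + 1) := by rw [pow_succ']
          _ ≤ _ := Nat.pow_le_pow_right (by omega) hjr
      have he : r ^ j - 2 + 2 * r ^ j ≤ r ^ (j + 1) - 2 := by
        have : 3 * r ^ j ≤ r ^ (j + 1) := by rw [pow_succ']; exact Nat.mul_le_mul_right _ hr
        omega
      rw [hstep, mul_pow]
      calc P j ^ 2 * (r * r ^ j + 1) ^ 2
          ≤ r ^ 2 * w ^ (r ^ j - 2) * (w ^ r ^ j) ^ 2 :=
            Nat.mul_le_mul h2 (Nat.pow_le_pow_left h3 2)
        _ = r ^ 2 * w ^ (r ^ j - 2 + 2 * r ^ j) := by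
            rw [← pow_mul, mul_assoc, ← pow_add, mul_comm (r ^ j) 2]
        _ ≤ _ := Nat.mul_le_mul_left _ (Nat.pow_le_pow_right (by omega) he)
  obtain ⟨h1, h2⟩ := hP1 k hk
  obtain ⟨v, rfl⟩ : ∃ v, w = v + 1 := ⟨w - 1, by omega⟩
  rw [Nat.add_sub_cancel] at hm
  have h3 : r * (m + 1) ≤ P k * (v + 1) := by
    calc r * (m + 1) = m * r + r := by ring
      _ ≤ P k * v + P k := Nat.add_le_add hm h1
      _ = _ := by ring
  have h2r : 2 ≤ r ^ k := le_trans (by omega) (Nat.le_self_pow (by omega) r)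
  refine le_trans (Nat.le_of_mul_le_mul_left ?_ (show 0 < r ^ 2 by positivity)) hn
  calc r ^ 2 * (m + 1) ^ 2 = (r * (m + 1)) ^ 2 := by ring
    _ ≤ (P k * (v + 1)) ^ 2 := Nat.pow_le_pow_left h3 2
    _ = P k ^ 2 * (v + 1) ^ 2 := by ring
    _ ≤ r ^ 2 * (v + 1) ^ (r ^ k - 2) * (v + 1) ^ 2 := Nat.mul_le_mul_right _ h2
    _ = _ := by rw [mul_assoc, ← pow_add, Nat.sub_add_cancel h2r]

/-! ### The bound -/

namespace Central.ClassTwo

theorem sq_le (t : ClassTwo D A S p r Y z) : (D.index + 1) ^ 2 ≤ Nat.card S := by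
  have c := t.cen
  have m := c.mb
  have := Fact.mk m.rprime
  obtain ⟨h, hh, hhr, hbad⟩ := m.bad
  obtain ⟨hh1, hU1⟩ := bad_iff.1 hbad
  have hfh : Fx S Y (Subgroup.zpowers h) := ⟨Subgroup.zpowers_le.2 hh, hU1⟩
  obtain ⟨K, hK, hKmax⟩ := Set.exists_max_image {K : Subgroup G | Fx S Y K}
    (fun K => Nat.card K) (Set.toFinite _) ⟨_, hfh⟩
  have hK' : Fx S Y K := hK
  obtain ⟨k, hk⟩ := (m.pgroup.to_le hK'.1).exists_card_eq
  have hmaxk : ∀ L, Fx S Y L → Nat.card L ≤ r ^ k := fun L hL => hk ▸ hKmax L hL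
  have hk1 : 1 ≤ k := by
    by_contra hk0
    have h1 := hmaxk _ hfh
    rw [Nat.card_zpowers, orderOf_eq_prime hhr hh1, show k = 0 by omega, pow_zero] at h1
    have := m.rprime.two_le
    omega
  have hmax : ∀ b ∈ Y, b ∉ K → ¬ Fx S Y (K ⊔ Subgroup.zpowers b) := by
    intro b _ hbK hfx
    have h1 := hmaxk _ hfx
    rw [t.card_sup_zpowers hbK hfx, hk] at h1
    have := m.rprime.two_le
    have : 0 < r ^ k := Nat.pow_pos m.rprime.pos
    nlinarith
  set C := cY Y K
  set U := cS S K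
  set w := Nat.card U
  set n := Nat.card S
  -- `R = |C / K|`
  obtain ⟨R, hR⟩ := Subgroup.card_dvd_of_le (t.self_le_cY hK')
  have hzC : z ∈ C := mem_cY.2 ⟨c.zY, fun l hl => (c.zc l (hK'.1 hl)).symm⟩
  have hzK : z ∉ K := fun hc => c.z_ne_one (t.eq_one_of_mem hK' hc (Subgroup.mem_zpowers z))
  have hrR : r ∣ R := by
    obtain ⟨i, hi⟩ : ∃ i, Nat.card C = r ^ i :=
      (m.pgroup.to_le (inf_le_left : C ≤ Y)).exists_card_eq
    have hki : k < i := by
      by_contra hle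
      have hle' : Nat.card C ≤ Nat.card K := by
        rw [hi, hk]; exact Nat.pow_le_pow_right m.rprime.pos (not_lt.1 hle)
      exact hzK ((Subgroup.eq_of_le_of_card_ge (t.self_le_cY hK') hle').ge hzC)
    obtain ⟨e, rfl⟩ := Nat.exists_eq_add_of_lt hki
    rw [hi, hk, add_assoc, pow_add] at hR
    exact ⟨r ^ e, by rw [← Nat.eq_of_mul_eq_mul_left (Nat.pow_pos m.rprime.pos) hR, pow_succ']⟩
  have hRodd : r ≠ 2 → R = r := by
    intro hr
    have h1 : Nat.card C ≤ numExp Y K r := by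
      rw [show Nat.card C = (C : Set G).ncard from rfl]
      exact Set.ncard_le_ncard fun x hx => ⟨hx, t.pow_eq_one_of_odd hr (mem_cY.1 hx).1⟩
    have h2 := h1.trans (t.numExp_le_of_max hK' hmax)
    rw [hR, mul_comm r] at h2
    have h3 := Nat.le_of_mul_le_mul_left h2 Nat.card_pos
    have hR0 : 0 < R := Nat.pos_of_ne_zero fun h0 => by
      rw [h0, mul_zero] at hR
      exact Nat.card_pos.ne' hR
    exact le_antisymm h3 (Nat.le_of_dvd hR0 hrR)
  have hYc : Nat.card Y = r ^ (2 * k) * R := by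
    rw [← t.card_mul_card_cY hK', hR, hk]; ring
  -- the set and the action
  set ι : Set (Subgroup G) := {L | Fx S Y L ∧ Nat.card L = r ^ k}
  set N := A ⊓ Subgroup.normalizer (Y : Set G)
  have hmem : ∀ g ∈ N, ∀ L ∈ ι, L.map (MulAut.conj g).toMonoidHom ∈ ι := by
    rintro g hg L ⟨⟨hLY, hLne⟩, hLc⟩
    refine ⟨⟨?_, fun h0 => hLne ?_⟩, ?_⟩
    · rintro _ ⟨l, hl, rfl⟩; exact m.conj_mem hg (hLY hl)
    · have h1 := card_cS_conj (m.lin.A_norm hg.1) L
      rw [h0, Subgroup.card_bot] at h1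
      exact Subgroup.card_eq_one.1 h1.symm
    · rw [Subgroup.card_map_of_injective (MulEquiv.injective _), hLc]
  let _ : MulAction N ι :=
    { smul := fun g L => ⟨L.1.map (MulAut.conj g.1).toMonoidHom, hmem g.1 g.2 L.1 L.2⟩
      one_smul := fun L => Subtype.ext (by
        show L.1.map (MulAut.conj (1 : G)).toMonoidHom = L.1
        ext x
        simp)
      mul_smul := fun a b L => Subtype.ext (by
        show L.1.map (MulAut.conj (a.1 * b.1)).toMonoidHom
          = (L.1.map (MulAut.conj b.1).toMonoidHom).map (MulAut.conj a.1).toMonoidHom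
        rw [Subgroup.map_map]
        congr 1
        ext x
        simp [mul_assoc]) }
  -- the conjugates of `K` under `Y`
  set O : Set (Subgroup G) := {L | ∃ y ∈ Y, K.map (MulAut.conj y).toMonoidHom = L}
  have htr : ∀ y ∈ Y, ∀ x ∈ K, ∃ v ∈ Subgroup.zpowers z, y * x * y⁻¹ = v * x := fun y hy x hx =>
    ⟨_, t.comm_mem y hy x (hK'.1 hx), by group⟩
  have hOc : r ^ k ≤ O.ncard := by
    have hstab : ∀ y ∈ Y, ∀ y' ∈ Y,
        K.map (MulAut.conj y).toMonoidHom = K.map (MulAut.conj y').toMonoidHom →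
          y⁻¹ * y' ∈ C := by
      intro y hy y' hy' he
      refine mem_cY.2 ⟨Y.mul_mem (Y.inv_mem hy) hy', fun x hx => ?_⟩
      have h1 : y' * x * y'⁻¹ ∈ K.map (MulAut.conj y).toMonoidHom := he ▸ ⟨x, hx, rfl⟩
      obtain ⟨x', hx', hxx⟩ := h1
      have hxx' : y * x' * y⁻¹ = y' * x * y'⁻¹ := hxx
      have h2 : y⁻¹ * y' * x * (y⁻¹ * y')⁻¹ = x' := by
        calc y⁻¹ * y' * x * (y⁻¹ * y')⁻¹ = y⁻¹ * (y' * x * y'⁻¹) * y := by group
          _ = x' := by rw [← hxx']; group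
      have h3 := t.eq_one_of_mem hK' (K.mul_mem hx' (K.inv_mem hx))
        (h2 ▸ t.comm_mem _ (Y.mul_mem (Y.inv_mem hy) hy') x (hK'.1 hx))
      rw [mul_inv_eq_one] at h3
      rw [h3, mul_inv_eq_iff_eq_mul] at h2
      exact h2.symm
    let f : Y → O := fun y => ⟨K.map (MulAut.conj y.1).toMonoidHom, y.1, y.2, rfl⟩
    let rep : O → G := fun L => L.2.choose
    have hle : Nat.card Y ≤ Nat.card (C × O) := by
      refine Nat.card_le_card_of_injective
        (fun y => (⟨(rep (f y))⁻¹ * y.1,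
          hstab _ (f y).2.choose_spec.1 _ y.2 (f y).2.choose_spec.2⟩, f y)) ?_
      intro y y' hyy
      simp only [Prod.mk.injEq, Subtype.mk.injEq] at hyy
      rw [show f y = f y' from hyy.2] at hyy
      exact Subtype.ext (mul_left_cancel hyy.1)
    rw [Nat.card_prod, ← t.card_mul_card_cY hK', Nat.card_coe_set_eq, hk, mul_comm] at hle
    exact Nat.le_of_mul_le_mul_left hle Nat.card_pos
  -- the component bound
  have hwn : w ^ r ^ k ≤ n := by
    set E := K ⊔ Subgroup.zpowers z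
    have hEY : E ≤ Y := sup_le hK'.1 c.zpowers_le
    have hzcK : ∀ l ∈ K, l * z = z * l := fun l hl => (c.zc l (hK'.1 hl)).symm
    have hEc : ∀ x ∈ E, ∀ y ∈ E, x * y = y * x := by
      intro x hx y hy
      obtain ⟨a, ha, i, -, rfl⟩ := mem_sup_zpowers_of_comm hzcK hx
      obtain ⟨b, hb, j, -, rfl⟩ := mem_sup_zpowers_of_comm hzcK hy
      have h1 : Commute a b := t.fx_comm hK' ha hb
      have h2 : ∀ {v : G} (q : ℕ), v ∈ K → Commute v (z ^ q) := fun q hv =>
        (show Commute _ z from hzcK _ hv).pow_right q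
      exact ((h1.mul_right (h2 j ha)).mul_left
        ((h2 i hb).symm.mul_right ((Commute.refl z).pow_pow i j))).eq
    have : Fintype O := Fintype.ofFinite _
    have hOE : ∀ L ∈ O, L ≤ E := by
      rintro _ ⟨y, hy, rfl⟩ _ ⟨x, hx, rfl⟩
      obtain ⟨v, hv, he⟩ := htr y hy x hx
      show y * x * y⁻¹ ∈ E
      rw [he]
      exact E.mul_mem (Subgroup.mem_sup_right hv) (Subgroup.mem_sup_left hx)
    have h1 := m.lin.prod_card_cS_le (E := E) (hEY.trans m.leA) (m.not_p_dvd hEY) hEc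
      (fun L : O => L.1) (fun L => hOE L.1 L.2) ?_
      (eq_bot_iff.2 (c.cS_z ▸ cS_anti S le_sup_right))
    · rw [Finset.prod_eq_pow_card (b := w) (fun L _ => by
        obtain ⟨y, hy, he⟩ := L.2
        rw [← he]
        exact card_cS_conj (m.lin.A_norm (m.leA hy)) K), Finset.card_univ,
        ← Nat.card_eq_fintype_card, Nat.card_coe_set_eq] at h1
      exact le_trans (Nat.pow_le_pow_right Nat.card_pos hOc) h1
    · rintro ⟨L₁, y1, hy1, h₁⟩ ⟨L₂, y2, hy2, h₂⟩ hne
      show E ≤ L₁ ⊔ L₂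
      set H := L₁ ⊔ L₂
      obtain ⟨x, hx, v1, hv1, v2, hv2, he1, he2, hv⟩ : ∃ x ∈ K, ∃ v1 ∈ Subgroup.zpowers z,
          ∃ v2 ∈ Subgroup.zpowers z, y1 * x * y1⁻¹ = v1 * x ∧ y2 * x * y2⁻¹ = v2 * x ∧
            v1 ≠ v2 := by
        by_contra hc
        push Not at hc
        refine hne (Subtype.ext ?_)
        show L₁ = L₂
        rw [← h₁, ← h₂]
        ext g
        constructor
        · rintro ⟨x, hx, rfl⟩
          obtain ⟨v1, hv1, e1⟩ := htr y1 hy1 x hx
          obtain ⟨v2, hv2, e2⟩ := htr y2 hy2 x hx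
          exact ⟨x, hx, by
            show y2 * x * y2⁻¹ = y1 * x * y1⁻¹
            rw [e1, e2, hc x hx v1 hv1 v2 hv2 e1 e2]⟩
        · rintro ⟨x, hx, rfl⟩
          obtain ⟨v1, hv1, e1⟩ := htr y1 hy1 x hx
          obtain ⟨v2, hv2, e2⟩ := htr y2 hy2 x hx
          exact ⟨x, hx, by
            show y1 * x * y1⁻¹ = y2 * x * y2⁻¹
            rw [e1, e2, hc x hx v1 hv1 v2 hv2 e1 e2]⟩
      have hin1 : ∀ x ∈ K, y1 * x * y1⁻¹ ∈ H := fun x hx =>
        Subgroup.mem_sup_left (h₁ ▸ ⟨x, hx, rfl⟩)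
      have hin2 : ∀ x ∈ K, y2 * x * y2⁻¹ ∈ H := fun x hx =>
        Subgroup.mem_sup_right (h₂ ▸ ⟨x, hx, rfl⟩)
      have hd : v1 * v2⁻¹ ∈ H := by
        have h5 := H.mul_mem (hin1 x hx) (H.inv_mem (hin2 x hx))
        rw [he1, he2] at h5
        simpa [mul_assoc] using h5
      obtain ⟨q, hq⟩ := (Subgroup.zpowers z).mul_mem hv1 ((Subgroup.zpowers z).inv_mem hv2)
      simp only at hq
      have hzH : z ∈ H := mem_of_zpow_mem_of_prime m.rprime c.zord
        (fun h6 => hv (mul_inv_eq_one.1 (hq ▸ h6))) (hq ▸ hd)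
      refine sup_le (fun a ha => ?_) (Subgroup.zpowers_le.2 hzH)
      obtain ⟨v, hv', he⟩ := htr y1 hy1 a ha
      have h7 : v ∈ H := (Subgroup.zpowers_le.2 hzH) hv'
      exact (H.mul_mem_cancel_left h7).1 (he ▸ hin1 a ha)
  -- semiregularity of `C / K` on `U`
  have hsemi : ∀ u ∈ U, u ≠ 1 → ∀ W : Set G, (∀ y ∈ C, y * u * y⁻¹ ∈ W) → R ≤ W.ncard := by
    intro u hu hu1 W hW
    have hdiff : ∀ y ∈ C, ∀ y' ∈ C, y * u * y⁻¹ = y' * u * y'⁻¹ → y⁻¹ * y' ∈ K := by
      intro y hy y' hy' he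
      by_contra hne
      set v := y⁻¹ * y'
      have hvu : v * u = u * v := by
        calc v * u = y⁻¹ * (y' * u * y'⁻¹) * y' := by simp only [v]; group
          _ = _ := by rw [← he]; simp only [v]; group
      have hvY : v ∈ Y := Y.mul_mem (Y.inv_mem (mem_cY.1 hy).1) (mem_cY.1 hy').1
      refine hmax v hvY hne ⟨sup_le hK'.1 (Subgroup.zpowers_le.2 hvY), fun h0 => hu1 ?_⟩
      refine Subgroup.mem_bot.1 (h0 ▸ ?_)
      rw [cS_sup]
      exact ⟨hu, cS_zpowers.2 ⟨cS_le _ _ hu, hvu⟩⟩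
    set im : Set G := (fun y => y * u * y⁻¹) '' (C : Set G)
    have hle : Nat.card C ≤ Nat.card (K × im) := by
      refine Nat.card_le_card_of_injective (fun y =>
        (⟨(Set.mem_image_of_mem (fun y => y * u * y⁻¹) y.2).choose⁻¹ * y.1,
          hdiff _ (Set.mem_image_of_mem (fun y => y * u * y⁻¹) y.2).choose_spec.1 _ y.2
            (Set.mem_image_of_mem (fun y => y * u * y⁻¹) y.2).choose_spec.2⟩,
          ⟨y.1 * u * y.1⁻¹, Set.mem_image_of_mem _ y.2⟩)) ?_
      intro y y' hyy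
      simp only [Prod.mk.injEq, Subtype.mk.injEq] at hyy
      obtain ⟨h1, h2⟩ := hyy
      simp only [h2] at h1
      exact Subtype.ext (mul_left_cancel h1)
    rw [Nat.card_prod, hR] at hle
    refine (Nat.le_of_mul_le_mul_left hle Nat.card_pos).trans ?_
    rw [Nat.card_coe_set_eq]
    exact Set.ncard_le_ncard (by rintro _ ⟨y, hy, rfl⟩; exact hW y hy)
  have hRw : R + 1 ≤ w := by
    obtain ⟨u, hu, hu1⟩ := SetLike.exists_of_lt (bot_lt_iff_ne_bot.2 hK'.2)
    rw [Subgroup.mem_bot] at hu1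
    have h1 := hsemi u hu hu1 ((U : Set G) \ {1}) fun y hy => by
      obtain ⟨huS, huK⟩ := mem_cS.1 hu
      refine ⟨mem_cS.2 ⟨m.lin.conj_mem (m.leA (mem_cY.1 hy).1) huS, fun l hl => ?_⟩,
        by simpa using hu1⟩
      exact (((show Commute l y from (mem_cY.1 hy).2 l hl).mul_right (huK l hl)).mul_right
        (show Commute l y from (mem_cY.1 hy).2 l hl).inv_right).eq
    rw [Set.ncard_sdiff_singleton_of_mem (show (1 : G) ∈ (U : Set G) from one_mem _)] at h1
    have : (U : Set G).ncard = w := rfl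
    have : 0 < w := Nat.card_pos
    omega
  -- the orbit bound
  have hb := m.lin.orbit_bound (M := N) inf_le_left m.cov (ι := ι) ⟨K, hK', hk⟩
    (U := U) (cS_le _ _) hK'.2 ?_ (c := r ^ k) (r' := R) ?_ ?_
  rotate_left
  · intro g hg u hu
    obtain ⟨huS, huK⟩ := mem_cS.1 hu
    refine mem_cS.2 ⟨m.lin.conj_mem g.2.1 huS, fun l hl => ?_⟩
    have hg' : K.map (MulAut.conj g.1).toMonoidHom = K := congrArg Subtype.val hg
    rw [← hg'] at hl
    obtain ⟨a, ha, rfl⟩ := hl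
    show g.1 * a * g.1⁻¹ * (g.1 * u * g.1⁻¹) = g.1 * u * g.1⁻¹ * (g.1 * a * g.1⁻¹)
    calc g.1 * a * g.1⁻¹ * (g.1 * u * g.1⁻¹) = g.1 * (a * u) * g.1⁻¹ := by group
      _ = _ := by rw [huK a ha]; group
  · refine hOc.trans ?_
    rw [← Nat.card_coe_set_eq, ← Nat.card_coe_set_eq]
    refine Nat.card_le_card_of_injective
      (fun L => ⟨(⟨L.2.choose, m.le_N L.2.choose_spec.1⟩ : N) • (⟨K, hK', hk⟩ : ι),
        ⟨L.2.choose, m.le_N L.2.choose_spec.1⟩, m.leD L.2.choose_spec.1, rfl⟩) ?_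
    intro L L' he
    have h1 : K.map (MulAut.conj L.2.choose).toMonoidHom
        = K.map (MulAut.conj L'.2.choose).toMonoidHom := congrArg (fun v => v.1.1) he
    exact Subtype.ext (by rw [← L.2.choose_spec.2, h1, L'.2.choose_spec.2])
  · intro u hu hu1
    refine hsemi u hu hu1 _ fun y hy => ⟨⟨y, m.le_N (mem_cY.1 hy).1⟩, m.leD (mem_cY.1 hy).1,
      Subtype.ext ?_, rfl⟩
    show K.map (MulAut.conj y).toMonoidHom = K
    apply Subgroup.eq_of_le_of_card_ge
    · rintro _ ⟨l, hl, rfl⟩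
      show y * l * y⁻¹ ∈ K
      rw [← (mem_cY.1 hy).2 l hl, mul_inv_cancel_right]
      exact hl
    · rw [Subgroup.card_map_of_injective (MulEquiv.injective _)]
  -- counting
  obtain ⟨τ, hτ, hI⟩ : ∃ τ, R = (if r = 2 then 2 * τ else τ) ∧
      ∀ (j : ℕ) (L : Subgroup G), Fx S Y L → Nat.card L = r ^ j → j ≤ k →
        numExp Y L r + τ * r ^ k ≤ τ * r ^ (2 * k - j) + r ^ (k + 1) := by
    by_cases hr : r = 2
    · obtain ⟨σ, hσ⟩ := hrR
      refine ⟨σ, by rw [if_pos hr, hσ, hr], fun j L hL hLc hj => ?_⟩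
      refine t.numExp_bound_two hr (σ := σ) (Nat.pos_of_ne_zero fun h0 => ?_) hmaxk ?_ (k - j)
        j L hL hLc (by omega)
      · rw [hσ, h0, mul_zero, mul_zero] at hR
        exact Nat.card_pos.ne' hR
      · rw [hYc, hσ]; ring
    · refine ⟨r, by rw [if_neg hr, hRodd hr], fun j L hL hLc hj => ?_⟩
      have h1 : numExp Y L r ≤ Nat.card (cY Y L) := Set.ncard_le_ncard fun x hx => hx.1
      have h2 := t.card_mul_card_cY hL
      rw [hLc, hYc, hRodd hr] at h2
      have h3 : r ^ (2 * k) * r = r ^ j * (r * r ^ (2 * k - j)) := by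
        rw [← mul_assoc, mul_comm (r ^ j) r, mul_assoc, ← pow_add, mul_comm]
        congr 2
        omega
      rw [h3] at h2
      have h4 := Nat.eq_of_mul_eq_mul_left (Nat.pow_pos m.rprime.pos) h2
      have e1 : r ^ (k + 1) = r * r ^ k := pow_succ' r k
      omega
  have hcount := t.count_above hI k 0 ⊥ t.fx_bot (by rw [Subgroup.card_bot, pow_zero]) (by omega)
  have hι : Nat.card ι ≤ r ^ k * ∏ i ∈ Finset.range k, (τ * r ^ i + 1) := by
    rw [Nat.card_coe_set_eq]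
    refine le_trans ?_ (hcount.trans (le_of_eq ?_))
    · exact Set.ncard_le_ncard fun L hL => ⟨hL.1, hL.2, bot_le⟩
    · rw [Finset.prod_mul_distrib, Finset.prod_const, Finset.card_range]
  have hmR : D.index * R ≤ (∏ i ∈ Finset.range k, (τ * r ^ i + 1)) * (w - 1) := by
    apply Nat.le_of_mul_le_mul_left _ (Nat.pow_pos m.rprime.pos : 0 < r ^ k)
    calc r ^ k * (D.index * R) = D.index * r ^ k * R := by ring
      _ ≤ Nat.card ι * (w - 1) := hb
      _ ≤ r ^ k * (∏ i ∈ Finset.range k, (τ * r ^ i + 1)) * (w - 1) := Nat.mul_le_mul_right _ hι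
      _ = _ := by ring
  have hR0 : 0 < R := Nat.pos_of_ne_zero fun h0 => by
    rw [h0, mul_zero] at hR; exact Nat.card_pos.ne' hR
  by_cases hr : r = 2
  · subst hr
    rw [if_pos rfl] at hτ
    subst hτ
    exact arith_two hk1 (by omega) hRw hmR hwn
  · rw [if_neg hr] at hτ
    subst hτ
    have hRr := hRodd hr
    rw [hRr] at hmR hRw
    exact arith_odd hk1 (lt_of_le_of_ne m.rprime.two_le (Ne.symm hr)) hRw hmR hwn

end Central.ClassTwo

/-- The linear bound, in every degree. -/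
theorem Lin.main' (h : Lin D A S p) (hbad : ∃ a ∈ A ⊓ D, Bad S a) :
    (D.index + 1) ^ 2 ≤ Nat.card S := by
  obtain ⟨r, Y, m⟩ := h.exists_minBad hbad
  by_cases hab : ∀ x ∈ Y, ∀ y ∈ Y, x * y = y * x
  · exact m.sq_le_of_abelian hab
  obtain ⟨z, c⟩ := m.exists_central hab
  by_cases hex : ∃ x ∈ Y, x ^ r = 1 ∧ x ∉ Subgroup.zpowers z ∧
      ∀ y ∈ Y, x * y * x⁻¹ * y⁻¹ ∈ Subgroup.zpowers z
  · exact (c.classTwo_of_exists hex).sq_le
  · exact c.sq_le_noExtraspecial hex

end Derange5732
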