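import Cfsg.Agent.Derange5732.Linear.Helpers

/-!
# A minimal subgroup with a non-trivial fixed point and a covering normaliser
-/

set_option autoImplicit false

namespace Derange5732

open scoped Classical

variable {G : Type*} [Group G]

/-- `x` is bad if it fixes a non-trivial element of `S`. -/
def Bad (S : Subgroup G) (x : G) : Prop := x ≠ 1 ∧ ∃ s ∈ S, s ≠ 1 ∧ x * s = s * x

theorem bad_iff {S : Subgroup G} {x : G} :
    Bad S x ↔ x ≠ 1 ∧ cS S (Subgroup.zpowers x) ≠ ⊥ := by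
  refine and_congr_right fun _ => ⟨?_, ?_⟩
  · rintro ⟨s, hs, hs1, hxs⟩ h
    exact hs1 (Subgroup.mem_bot.1 (h ▸ cS_zpowers.2 ⟨hs, hxs⟩))
  · intro h
    obtain ⟨s, hs, hs1⟩ := SetLike.exists_of_lt (bot_lt_iff_ne_bot.2 h)
    exact ⟨s, (cS_zpowers.1 hs).1, fun he => hs1 (Subgroup.mem_bot.2 he), (cS_zpowers.1 hs).2⟩

/-- A minimal bad subgroup. -/
structure MinBad (D A S : Subgroup G) (p r : ℕ) (Y : Subgroup G) : Prop where
  lin : Lin D A S p
  rprime : r.Prime
  ne : p ≠ r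
  le : Y ≤ A ⊓ D
  cov : Cov D (A ⊓ Subgroup.normalizer (Y : Set G))
  pgroup : IsPGroup r Y
  bad : ∃ y ∈ Y, y ^ r = 1 ∧ Bad S y
  proper : ∀ Y' ≤ Y, A ⊓ Subgroup.normalizer (Y : Set G) ≤ Subgroup.normalizer (Y' : Set G) →
    Y' ≠ Y → ∀ y ∈ Y', ¬ Bad S y

theorem Lin.exists_minBad [Finite G] {D A S : Subgroup G} {p : ℕ} (h : Lin D A S p)
    (hbad : ∃ a ∈ A ⊓ D, Bad S a) : ∃ r Y, MinBad D A S p r Y := by
  obtain ⟨Y, ⟨hYle, hYcov, y, hy, hybad⟩, hmin⟩ := Set.Finite.exists_minimal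
    (Set.toFinite {Y : Subgroup G | Y ≤ A ⊓ D ∧ Cov D (A ⊓ Subgroup.normalizer (Y : Set G)) ∧
      ∃ y ∈ Y, Bad S y})
    ⟨A ⊓ D, le_rfl, h.cov.mono (le_inf le_rfl (Subgroup.le_normalizer_iff.2 fun g hg k hk =>
      ⟨A.mul_mem (A.mul_mem hg hk.1) (A.inv_mem hg), h.normal.conj_mem k hk.2 g⟩)), hbad⟩
  set N := A ⊓ Subgroup.normalizer (Y : Set G)
  set r := (orderOf y).minFac
  have hr : r.Prime := Nat.minFac_prime (fun h1 => hybad.1 (orderOf_eq_one_iff.1 h1))
  have := Fact.mk hr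
  obtain ⟨k, hk⟩ : r ∣ orderOf y := Nat.minFac_dvd _
  set y' := y ^ k
  have hy'r : y' ^ r = 1 := by rw [← pow_mul, mul_comm, ← hk]; exact pow_orderOf_eq_one y
  have hy'1 : y' ≠ 1 := fun h1 => by
    have := orderOf_dvd_of_pow_eq_one h1
    rw [hk] at this
    have hk0 : 0 < k := Nat.pos_of_ne_zero fun h0 => by
      rw [h0, mul_zero] at hk; exact (orderOf_pos y).ne' hk
    exact absurd (Nat.le_of_dvd hk0 this) (by nlinarith [hr.two_le])
  have hy'bad : Bad S y' := by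
    obtain ⟨-, s, hs, hs1, hys⟩ := hybad
    exact ⟨hy'1, s, hs, hs1, ((show Commute y s from hys).pow_left k).eq⟩
  have hy'Y : y' ∈ Y := Y.pow_mem hy k
  have hpg : IsPGroup r (Subgroup.zpowers y') := IsPGroup.of_card (n := 1) (by
    rw [Nat.card_zpowers, pow_one, orderOf_eq_prime hy'r hy'1])
  obtain ⟨P, hP, hy'P⟩ := exists_isSyl_ge (Subgroup.zpowers_le.2 hy'Y) hpg
  have hPY : P = Y := le_antisymm hP.le <| hmin
    ⟨hP.le.trans hYle,
      (Cov.frattini h.normal hYcov (le_inf (hYle.trans inf_le_left) Subgroup.le_normalizer)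
        (hYle.trans inf_le_right) inf_le_right hP).mono
        (le_inf (inf_le_left.trans inf_le_left) inf_le_right),
      y', hy'P (Subgroup.mem_zpowers y'), hy'bad⟩ hP.le
  refine ⟨r, Y, h, hr, ?_, hYle, hYcov, hPY ▸ hP.isPGroup, ⟨y', hy'Y, hy'r, hy'bad⟩, ?_⟩
  · rintro rfl
    apply h.coprime
    have h1 := orderOf_eq_prime hy'r hy'1
    rw [← h1]
    exact Subgroup.orderOf_dvd_natCard _ (hYle hy'Y)
  · intro Y' hY' hnorm hne x hx hxbad
    exact hne (le_antisymm hY' (hmin ⟨hY'.trans hYle,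
      hYcov.mono (le_inf inf_le_left hnorm), x, hx, hxbad⟩ hY'))

namespace MinBad

variable [Finite G] {D A S : Subgroup G} {p r : ℕ} {Y : Subgroup G}

omit [Finite G] in
theorem leA (m : MinBad D A S p r Y) : Y ≤ A := m.le.trans inf_le_left

omit [Finite G] in
theorem leD (m : MinBad D A S p r Y) : Y ≤ D := m.le.trans inf_le_right

omit [Finite G] in
theorem le_N (m : MinBad D A S p r Y) : Y ≤ A ⊓ Subgroup.normalizer (Y : Set G) :=
  le_inf m.leA Subgroup.le_normalizer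

theorem not_p_dvd (m : MinBad D A S p r Y) {E : Subgroup G} (hE : E ≤ Y) : ¬ p ∣ Nat.card E :=
  fun h => m.lin.coprime (h.trans (Subgroup.card_dvd_of_le (hE.trans m.le)))

omit [Finite G] in
theorem conj_mem (m : MinBad D A S p r Y) {g y : G}
    (hg : g ∈ A ⊓ Subgroup.normalizer (Y : Set G)) (hy : y ∈ Y) : g * y * g⁻¹ ∈ Y :=
  Subgroup.le_normalizer_iff.1 (le_refl _) g hg.2 y hy

omit [Finite G] in
theorem cS_eq_bot (m : MinBad D A S p r Y) : cS S Y = ⊥ := by
  have hnorm : A ⊓ Subgroup.normalizer (Y : Set G) ≤ Subgroup.normalizer (cS S Y : Set G) := by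
    rw [Subgroup.le_normalizer_iff]
    intro g hg s hs
    obtain ⟨hsS, hsY⟩ := mem_cS.1 hs
    refine mem_cS.2 ⟨m.lin.conj_mem hg.1 hsS, fun y hy => ?_⟩
    have h1 : g⁻¹ * y * g ∈ Y := by
      simpa using m.conj_mem (inv_mem hg) hy
    calc y * (g * s * g⁻¹) = g * ((g⁻¹ * y * g) * s) * g⁻¹ := by group
      _ = g * s * g⁻¹ * y := by rw [hsY _ h1]; group
  rcases m.lin.irred (cS S Y) (cS_le S Y) (m.cov.mono hnorm) with h | h
  · exact h
  · exfalso
    obtain ⟨y, hy, -, hy1, -⟩ := m.bad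
    apply hy1
    apply m.lin.faithful y (m.leA hy)
    intro s hs
    exact (mem_cS.1 (h.ge hs : s ∈ cS S Y)).2 y hy

omit [Finite G] in
theorem S_ne_bot (m : MinBad D A S p r Y) : S ≠ ⊥ := by
  obtain ⟨y, -, -, -, s, hs, hs1, -⟩ := m.bad
  exact fun h => hs1 (Subgroup.mem_bot.1 (h ▸ hs))

omit [Finite G] in
/-- `Y` is generated by its elements of order `r`. -/
theorem closure_eq (m : MinBad D A S p r Y) :
    Subgroup.closure {y : G | y ∈ Y ∧ y ^ r = 1} = Y := by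
  by_contra hne
  obtain ⟨y, hy, hyr, hybad⟩ := m.bad
  refine m.proper _ ((Subgroup.closure_le Y).2 fun x hx => hx.1) ?_ hne y
    (Subgroup.subset_closure ⟨hy, hyr⟩) hybad
  rw [Subgroup.le_normalizer_closure_iff]
  intro g hg x hx
  exact Subgroup.subset_closure ⟨m.conj_mem hg hx.1, by rw [conj_pow, hx.2]; group⟩

/-- A `Fintype.card`-free form of the component bound for a group `⟨h, z⟩`. -/
theorem pow_card_cS_le (m : MinBad D A S p r Y) {h z : G} (hh : h ∈ Y) (hz : z ∈ Y)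
    (hhz : h * z = z * h) (hzr : z ^ r = 1) (hz1 : z ≠ 1)
    (hfpf : cS S (Subgroup.zpowers z) = ⊥)
    (hconj : ∀ i : ℕ, ∃ g ∈ A, g * h * g⁻¹ = h * z ^ i) :
    Nat.card (cS S (Subgroup.zpowers h)) ^ r ≤ Nat.card S := by
  set E := Subgroup.closure ({h, z} : Set G)
  have hhE : h ∈ E := Subgroup.subset_closure (by simp)
  have hzE : z ∈ E := Subgroup.subset_closure (by simp)
  have hEY : E ≤ Y := by
    rw [Subgroup.closure_le]; rintro x (rfl | rfl) <;> assumption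
  have h1 := m.lin.prod_card_cS_le (hEY.trans m.leA) (m.not_p_dvd hEY)
    (closure_comm (by
      rintro a (rfl | rfl) b (rfl | rfl) <;> first | rfl | exact hhz | exact hhz.symm))
    (ι := Fin r) (fun i => Subgroup.zpowers (h * z ^ (i : ℕ)))
    (fun i => Subgroup.zpowers_le.2 (E.mul_mem hhE (E.pow_mem hzE _))) ?_ ?_
  · refine le_trans (le_of_eq ?_) h1
    rw [Finset.prod_eq_pow_card (b := Nat.card (cS S (Subgroup.zpowers h))), Finset.card_univ,
      Fintype.card_fin]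
    intro i _
    obtain ⟨g, hg, hgh⟩ := hconj i
    exact card_cS_zpowers_conj (m.lin.A_norm hg) hgh
  · intro i j hij
    set H := Subgroup.zpowers (h * z ^ (i : ℕ)) ⊔ Subgroup.zpowers (h * z ^ (j : ℕ))
    have hi : h * z ^ (i : ℕ) ∈ H := Subgroup.mem_sup_left (Subgroup.mem_zpowers _)
    have hj : h * z ^ (j : ℕ) ∈ H := Subgroup.mem_sup_right (Subgroup.mem_zpowers _)
    have hd : z ^ (-(i.1 : ℤ) + j.1) ∈ H := by
      have := H.mul_mem (H.inv_mem hi) hj
      simpa [mul_assoc, zpow_add, zpow_natCast] using this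
    have hzH : z ∈ H := mem_of_zpow_mem_of_prime m.rprime
      (orderOf_eq_prime (hp := ⟨m.rprime⟩) hzr hz1) (fun he => hij (Fin.ext ?_)) hd
    · rw [Subgroup.closure_le]
      rintro x (rfl | rfl)
      · simpa using H.mul_mem hi (H.inv_mem (H.pow_mem hzH i))
      · exact hzH
    · rw [← orderOf_dvd_iff_zpow_eq_one, orderOf_eq_prime (hp := ⟨m.rprime⟩) hzr hz1] at he
      have hi' := i.2
      have hj' := j.2
      obtain ⟨t, ht⟩ := he
      rcases lt_trichotomy t 0 with h0 | h0 | h0 <;> nlinarith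
  · rw [eq_bot_iff, ← hfpf]
    exact cS_anti S (Subgroup.zpowers_le.2 hzE)

end MinBad

end Derange5732
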